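import Groth.Agent.AlgSpCartier.Chart
import Groth.Agent.AlgSpBasic.ImmersionDescent
import Groth.Agent.AlgSpBasic.Quotient
import Groth.Agent.AlgSp2.FppfProps
import Mathlib.AlgebraicGeometry.IdealSheaf.Functorial
import Mathlib.CategoryTheory.Sites.Subsheaf

/-!
# Closed subspaces of algebraic spaces from invariant ideal sheaves on a chart

An ideal sheaf on the source of an etale surjective chart whose two inverse images on the
relation agree cuts out a closed subspace.  Consequences: scheme theoretic images exist, and so do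
reduced induced structures.
-/

set_option autoImplicit false
set_option backward.isDefEq.respectTransparency.types false
universe u

open CategoryTheory CategoryTheory.Limits AlgebraicGeometry Opposite AlgSp Topology

namespace Groth.AlgSpCartier

noncomputable section

variable {S : Scheme.{u}} {X : Sp S} {V : Over S} {φ : (yon S).obj V ⟶ X}

/-- The two inverse images of the ideal on the fibre square of the chart agree. -/
def IsInvariant (φ : (yon S).obj V ⟶ X) (I : V.left.IdealSheafData) : Prop :=
  ∀ ⦃R : Over S⦄ (t s : R ⟶ V), IsPullback ((yon S).map t) ((yon S).map s) φ φ →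
    I.comap t.left = I.comap s.left

theorem isInvariant_of_isPullback {D : Sp S} {i : D ⟶ X} (hi : RepWith @IsClosedImmersion i)
    {I : V.left.IdealSheafData} {fst : (yon S).obj (subOver V I) ⟶ D}
    (sqI : IsPullback fst ((yon S).map (incl V I)) i φ) : IsInvariant φ I := by
  intro R t s sq
  obtain ⟨J, fJ, sqJ⟩ := exists_ideal hi ((yon S).map t ≫ φ)
  rw [comap_eq_of_isPullback sqI sqJ t rfl, comap_eq_of_isPullback sqI sqJ s sq.w.symm]

theorem isPullback_incl_comap (I : V.left.IdealSheafData) {R : Over S} (t : R ⟶ V) :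
    ∃ t' : subOver R (I.comap t.left) ⟶ subOver V I,
      IsPullback ((yon S).map t') ((yon S).map (incl R (I.comap t.left))) ((yon S).map (incl V I))
        ((yon S).map t) := by
  have hi : RepWith @IsClosedImmersion ((yon S).map (incl V I)) :=
    (repWith_yon_map_iff _ _).2 (inferInstanceAs (IsClosedImmersion I.subschemeι))
  have sq : IsPullback ((yon S).map (𝟙 (subOver V I))) ((yon S).map (incl V I))
      ((yon S).map (incl V I)) (𝟙 _) := by
    rw [(yon S).map_id]; exact IsPullback.id_horiz _
  obtain ⟨fst, h⟩ := exists_isPullback_comap hi sq t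
  obtain ⟨t', rfl⟩ := (yon S).map_surjective fst
  exact ⟨t', by simpa using h⟩

/-- An invariant ideal sheaf cuts out a closed subspace. -/
theorem exists_closedSub_of_isInvariant (hX : IsAlgSpace X) (hφ : RepWith @Etale φ)
    (hφs : RepWith @Surjective φ) {I : V.left.IdealSheafData} (hI : IsInvariant φ I) :
    ∃ (Z : Sp S) (i : Z ⟶ X) (fst : (yon S).obj (subOver V I) ⟶ Z),
      IsAlgSpace Z ∧ RepWith @IsClosedImmersion i ∧ IsPullback fst ((yon S).map (incl V I)) i φ := by
  let g : (yon S).obj (subOver V I) ⟶ X := (yon S).map (incl V I) ≫ φ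
  let i : Sheaf.image g ⟶ X := Sheaf.imageι g
  let e : (yon S).obj (subOver V I) ⟶ Sheaf.image g := Sheaf.toImage g
  have he : e ≫ i = g := Sheaf.toImage_ι g
  have : Mono i := inferInstanceAs (Mono (Sheaf.imageι g))
  have : Epi e := inferInstanceAs (Epi (Sheaf.toImage g))
  have hincl : Mono ((yon S).map (incl V I)) :=
    Groth.AlgSpBasic.mono_of_repWith (P := @IsClosedImmersion)
      (fun _ _ h (_ : IsClosedImmersion h) => inferInstance)
      ((repWith_yon_map_iff _ _).2 (inferInstanceAs (IsClosedImmersion I.subschemeι)))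
  have sq : IsPullback e ((yon S).map (incl V I)) i φ := by
    let l : (yon S).obj (subOver V I) ⟶ pullback i φ := pullback.lift e ((yon S).map (incl V I)) he
    have hl : l ≫ pullback.snd i φ = (yon S).map (incl V I) := pullback.lift_snd _ _ _
    have : Mono l := mono_of_mono_fac hl
    have : Epi l := by
      have : Sheaf.IsLocallySurjective e := (Sheaf.isLocallySurjective_iff_epi _).2 inferInstance
      let q₁ : pullback e (pullback.fst i φ) ⟶ pullback i φ := pullback.snd _ _
      let q₂ : pullback e (pullback.fst i φ) ⟶ (yon S).obj (subOver V I) := pullback.fst _ _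
      have hq : Sheaf.IsLocallySurjective q₁ :=
        Groth.AlgSpBasic.isLocallySurjective_of_isPullback (IsPullback.of_hasPullback _ _)
      have : Epi q₁ := (Sheaf.isLocallySurjective_iff_epi _).1 hq
      obtain ⟨R, t, s, sqR⟩ := Groth.AlgSpBasic.exists_pullback_yon
        (Groth.AlgSpBasic.representable_of_diag hX.diag φ) φ
      have w : (q₂ ≫ (yon S).map (incl V I)) ≫ φ = (q₁ ≫ pullback.snd i φ) ≫ φ := by
        rw [Category.assoc, Category.assoc, ← pullback.condition (f := i) (g := φ)]
        refine (congrArg (q₂ ≫ ·) he.symm).trans ?_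
        rw [← Category.assoc, ← Category.assoc]
        exact congrArg (· ≫ i) pullback.condition
      obtain ⟨t', sqt⟩ := isPullback_incl_comap I t
      obtain ⟨s', sqs⟩ := isPullback_incl_comap I s
      let r := sqR.lift _ _ w
      let r' := sqt.lift q₂ r (sqR.lift_fst _ _ w).symm
      obtain ⟨c, hc⟩ : ∃ c : subOver R (I.comap t.left) ⟶ subOver R (I.comap s.left),
          c ≫ incl R (I.comap s.left) = incl R (I.comap t.left) := by
        rw [hI t s sqR]; exact ⟨𝟙 _, Category.id_comp _⟩
      let m := r' ≫ (yon S).map (c ≫ s')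
      have hm : m ≫ (yon S).map (incl V I) = q₁ ≫ pullback.snd i φ := by
        rw [Category.assoc, Functor.map_comp, Category.assoc, sqs.w, ← Category.assoc ((yon S).map c),
          ← Functor.map_comp, hc, ← Category.assoc, sqt.lift_snd, sqR.lift_snd]
      have hml : m ≫ l = q₁ := by
        rw [← cancel_mono (pullback.snd i φ), Category.assoc, hl, hm]
      have : Epi (m ≫ l) := by rw [hml]; infer_instance
      exact epi_of_epi m l
    have : IsIso l := isIso_of_mono_of_epi l
    exact IsPullback.of_iso_pullback ⟨he⟩ (asIso l) (pullback.lift_fst _ _ _) hl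
  have hi : RepWith @IsClosedImmersion i :=
    Groth.AlgSpBasic.repWith_isClosedImmersion_of_cover hX hφ hφs sq
      ((repWith_yon_map_iff _ _).2 (inferInstanceAs (IsClosedImmersion I.subschemeι)))
  exact ⟨_, i, e, Groth.AlgSpBasic.isAlgSpace_of_representable hX i hi.rep, hi, sq⟩

theorem repWith_mono_closedImmersion {Z : Sp S} {i : Z ⟶ X} (hi : RepWith @IsClosedImmersion i) :
    Mono i :=
  Groth.AlgSpBasic.mono_of_repWith (P := @IsClosedImmersion)
    (fun _ _ h (_ : IsClosedImmersion h) => inferInstance) hi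

/-- The ideal is contained in the kernel exactly when the map factors through the subscheme. -/
theorem exists_lift_incl_iff (I : V.left.IdealSheafData) {W : Over S} (b : W ⟶ V) :
    (∃ l : W ⟶ subOver V I, l ≫ incl V I = b) ↔ I ≤ b.left.ker := by
  constructor
  · rintro ⟨l, rfl⟩
    calc I = I.subschemeι.ker := (Scheme.IdealSheafData.ker_subschemeι I).symm
      _ ≤ _ := l.left.le_ker_comp I.subschemeι
  · intro h
    have h' : I.subschemeι.ker ≤ b.left.ker := by rwa [Scheme.IdealSheafData.ker_subschemeι]
    have hl := IsClosedImmersion.lift_fac I.subschemeι b.left h'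
    refine ⟨Over.homMk (IsClosedImmersion.lift I.subschemeι b.left h') ?_, Over.OverMorphism.ext hl⟩
    show IsClosedImmersion.lift I.subschemeι b.left h' ≫ I.subschemeι ≫ V.hom = W.hom
    rw [← Category.assoc, hl, Over.w b]

/-- Factorisation through a closed subspace is a condition on the ideals on charts. -/
theorem exists_lift_iff_le_ker {Y Z : Sp S} {f : Y ⟶ X} {i : Z ⟶ X} (hi : RepWith @IsClosedImmersion i)
    {I : V.left.IdealSheafData} {fst : (yon S).obj (subOver V I) ⟶ Z}
    (sqI : IsPullback fst ((yon S).map (incl V I)) i φ) {W : Over S} {a : (yon S).obj W ⟶ Y}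
    [Sheaf.IsLocallySurjective a] {b : W ⟶ V} (hab : a ≫ f = (yon S).map b ≫ φ) :
    (∃ k : Y ⟶ Z, k ≫ i = f) ↔ I ≤ b.left.ker := by
  have := repWith_mono_closedImmersion hi
  rw [← exists_lift_incl_iff]
  constructor
  · rintro ⟨k, rfl⟩
    obtain ⟨l, hl⟩ := (yon S).map_surjective
      (sqI.lift (a ≫ k) ((yon S).map b) (by rw [Category.assoc, hab]))
    exact ⟨l, (yon S).map_injective (by rw [Functor.map_comp, hl, sqI.lift_snd])⟩
  · rintro ⟨l, rfl⟩
    have : Epi a := (Sheaf.isLocallySurjective_iff_epi _).1 inferInstance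
    have : StrongEpi a := strongEpi_of_epi a
    have sq : CommSq ((yon S).map l ≫ fst) a i f := ⟨by
      rw [Category.assoc, sqI.w, hab, Functor.map_comp, Category.assoc]⟩
    exact ⟨sq.lift, sq.fac_right⟩

/-- The chart of a closed subspace is a chart. -/
theorem chart_of_isPullback {Z : Sp S} {i : Z ⟶ X} (hφ : RepWith @Etale φ)
    (hφs : RepWith @Surjective φ) {I : V.left.IdealSheafData}
    {fst : (yon S).obj (subOver V I) ⟶ Z} (sqI : IsPullback fst ((yon S).map (incl V I)) i φ) :
    RepWith @Etale fst ∧ RepWith @Surjective fst :=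
  ⟨Groth.AlgSpBasic.repWith_of_isPullback sqI.flip hφ, Groth.AlgSpBasic.repWith_of_isPullback sqI.flip hφs⟩

theorem comap_sSup {A B : Scheme.{u}} (g : A ⟶ B) (s : Set B.IdealSheafData) :
    (sSup s).comap g = ⨆ K ∈ s, K.comap g :=
  (Scheme.IdealSheafData.map_gc g).l_sSup

theorem isInvariant_sSup (s : Set V.left.IdealSheafData) (hs : ∀ K ∈ s, IsInvariant φ K) :
    IsInvariant φ (sSup s) := by
  intro R t a sq
  rw [comap_sSup, comap_sSup]
  exact iSup_congr fun K => iSup_congr fun hK => hs K hK t a sq

/-- The largest invariant ideal below the kernel. -/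
def imageIdeal (φ : (yon S).obj V ⟶ X) {W : Over S} (b : W ⟶ V) : V.left.IdealSheafData :=
  sSup {K | IsInvariant φ K ∧ K ≤ b.left.ker}

theorem imageIdeal_le {W : Over S} (b : W ⟶ V) : imageIdeal φ b ≤ b.left.ker :=
  sSup_le fun _ h => h.2

theorem isInvariant_imageIdeal {W : Over S} (b : W ⟶ V) : IsInvariant φ (imageIdeal φ b) :=
  isInvariant_sSup _ fun _ h => h.1

theorem isSchImage_of_imageIdeal (hφ : RepWith @Etale φ) (hφs : RepWith @Surjective φ) {Y Z : Sp S}
    {f : Y ⟶ X} {i : Z ⟶ X} (hi : RepWith @IsClosedImmersion i) {W : Over S} {a : (yon S).obj W ⟶ Y}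
    [Sheaf.IsLocallySurjective a] {b : W ⟶ V} (hab : a ≫ f = (yon S).map b ≫ φ)
    {fst : (yon S).obj (subOver V (imageIdeal φ b)) ⟶ Z}
    (sqI : IsPullback fst ((yon S).map (incl V (imageIdeal φ b))) i φ) : IsSchImage f i := by
  refine ⟨hi, (exists_lift_iff_le_ker hi sqI hab).2 (imageIdeal_le b), fun Z' i' _ hi' hf => ?_⟩
  obtain ⟨K, fK, sqK⟩ := exists_ideal hi' φ
  have hK : K ≤ imageIdeal φ b :=
    le_sSup ⟨isInvariant_of_isPullback hi' sqK, (exists_lift_iff_le_ker hi' sqK hab).1 hf⟩
  have : Sheaf.IsLocallySurjective fst := by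
    have := chart_of_isPullback hφ hφs sqI
    exact Groth.AlgSpBasic.isLocallySurjective_of_etale fst this.1 this.2
  refine (exists_lift_iff_le_ker hi' sqK sqI.w).2 ?_
  show K ≤ (imageIdeal φ b).subschemeι.ker
  rwa [Scheme.IdealSheafData.ker_subschemeι]

/-- Scheme theoretic images exist. -/
theorem exists_isSchImage (hX : IsAlgSpace X) {Y : Sp S} (hY : IsAlgSpace Y) (f : Y ⟶ X) :
    ∃ (Z : Sp S) (i : Z ⟶ X), IsAlgSpace Z ∧ IsSchImage f i := by
  obtain ⟨V, φ, hφ, hφs⟩ := hX.atlas
  obtain ⟨W, a, b, ha, has, hab⟩ := Groth.AlgSpBasic.exists_chart_over hY hX.diag f φ hφ hφs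
  have := Groth.AlgSpBasic.isLocallySurjective_of_etale a ha has
  obtain ⟨Z, i, fst, hZ, hi, sq⟩ :=
    exists_closedSub_of_isInvariant hX hφ hφs (isInvariant_imageIdeal (φ := φ) b)
  exact ⟨Z, i, hZ, isSchImage_of_imageIdeal hφ hφs hi hab sq⟩

theorem radical_eq_self_of_isReduced {A : Scheme.{u}} (I : A.IdealSheafData) [IsReduced I.subscheme] :
    I.radical = I := by
  refine Scheme.IdealSheafData.ext (funext fun U => ?_)
  rw [Scheme.IdealSheafData.radical_ideal]
  refine le_antisymm (fun x hx => ?_) Ideal.le_radical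
  obtain ⟨n, hn⟩ := hx
  rw [← Scheme.IdealSheafData.ker_subschemeι I, Scheme.Hom.ker_apply, RingHom.mem_ker] at hn ⊢
  rw [map_pow] at hn
  exact IsNilpotent.eq_zero ⟨n, hn⟩

theorem isReduced_subscheme_vanishingIdeal {A : Scheme.{u}} (C : TopologicalSpace.Closeds A) :
    IsReduced (Scheme.IdealSheafData.vanishingIdeal C).subscheme := by
  let I := Scheme.IdealSheafData.vanishingIdeal C
  have : ∀ i, IsReduced (I.subschemeCover.openCover.X i) := fun (U : A.affineOpens) => by
    have hr : (I.ideal U).IsRadical := by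
      rw [show I.ideal U = PrimeSpectrum.vanishingIdeal (U.2.fromSpec ⁻¹' C) from rfl]
      exact PrimeSpectrum.isRadical_vanishingIdeal _
    have : _root_.IsReduced (Γ(A, U) ⧸ I.ideal U) := (Ideal.isRadical_iff_quotient_reduced _).1 hr
    show IsReduced (Spec (.of (Γ(A, U) ⧸ I.ideal U)))
    infer_instance
  exact IsReduced.of_openCover _ I.subschemeCover.openCover

theorem comap_vanishingIdeal {A B : Scheme.{u}} (g : A ⟶ B) [Smooth g]
    (C : TopologicalSpace.Closeds B) :
    (Scheme.IdealSheafData.vanishingIdeal C).comap g =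
      Scheme.IdealSheafData.vanishingIdeal (C.preimage g.continuous) := by
  set J := Scheme.IdealSheafData.vanishingIdeal C
  have := isReduced_subscheme_vanishingIdeal C
  have : IsReduced (J.comap g).subscheme := by
    have : IsReduced (pullback g J.subschemeι) :=
      Groth.AlgSp2.isReduced_of_smooth_morphism (pullback.snd g J.subschemeι)
    exact isReduced_of_isOpenImmersion (J.comapIso g).hom
  conv_lhs => rw [← radical_eq_self_of_isReduced (J.comap g),
    ← Scheme.IdealSheafData.vanishingIdeal_support, Scheme.IdealSheafData.support_comap]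
  congr 1

/-- Reduced induced structures on closed subsets exist. -/
theorem exists_isRedInduced (hX : IsAlgSpace X) {T : Set (Points X)} (hT : IsClosed T) :
    ∃ (Z : Sp S) (i : Z ⟶ X), IsAlgSpace Z ∧ IsRedInduced T i := by
  obtain ⟨V, φ, hφ, hφs⟩ := hX.atlas
  let C : TopologicalSpace.Closeds V.left := ⟨Points.ofPt φ ⁻¹' T, hT.preimage (Points.continuous_ofPt φ)⟩
  have hI : IsInvariant φ (Scheme.IdealSheafData.vanishingIdeal C) := by
    intro R t s sq
    have : Etale s.left := Groth.AlgSpBasic.repWith_fst_of_isPullback sq hφ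
    have : Etale t.left := Groth.AlgSpBasic.repWith_fst_of_isPullback sq.flip hφ
    rw [comap_vanishingIdeal, comap_vanishingIdeal]
    congr 1
    refine SetLike.coe_injective (Set.ext fun r => ?_)
    show Points.ofPt φ (t.left r) ∈ T ↔ Points.ofPt φ (s.left r) ∈ T
    rw [← Groth.AlgSpBasic.ofPt_comp_yon, ← Groth.AlgSpBasic.ofPt_comp_yon, sq.w]
  obtain ⟨Z, i, fst, hZ, hi, sq⟩ := exists_closedSub_of_isInvariant hX hφ hφs hI
  refine ⟨Z, i, hZ, hi, ?_, subOver V _, fst, (chart_of_isPullback hφ hφs sq).1,
    (chart_of_isPullback hφ hφs sq).2, isReduced_subscheme_vanishingIdeal C⟩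
  have h := Groth.AlgSpBasic.range_left_eq_preimage sq
  refine (Set.preimage_injective.2 (Groth.AlgSpBasic.surjective_ofPt_of_repWith hφs)) ?_
  rw [← h]
  show Set.range (Scheme.IdealSheafData.vanishingIdeal C).subschemeι = _
  rw [Scheme.IdealSheafData.range_subschemeι, Scheme.IdealSheafData.coe_support_vanishingIdeal]
  rfl

end

end Groth.AlgSpCartier
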