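import Groth.Agent.BlowUpBasics.EffCartier
import Groth.Agent.Divisors.EffCartier
import Mathlib.AlgebraicGeometry.Morphisms.UniversallyOpen
import Mathlib.AlgebraicGeometry.Morphisms.Etale
import Mathlib.RingTheory.Flat.FaithfullyFlat.Algebra

/-! Being an effective Cartier ideal descends along flat surjective open morphisms. -/

set_option autoImplicit false
universe u

open CategoryTheory AlgebraicGeometry TopologicalSpace

namespace Groth.AlgSpCartier

variable {X Y : Scheme.{u}}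

theorem faithfullyFlat_appLE (f : X ⟶ Y) [Flat f] {U : Y.Opens} {W : X.Opens} (hU : IsAffineOpen U)
    (hW : IsAffineOpen W) (e : W ≤ f ⁻¹ᵁ U) (hs : (U : Set Y) ⊆ f '' W) :
    letI := (f.appLE U W e).hom.toAlgebra
    Module.FaithfullyFlat Γ(Y, U) Γ(X, W) := by
  letI := (f.appLE U W e).hom.toAlgebra
  haveI : Module.Flat Γ(Y, U) Γ(X, W) := HasRingHomProperty.appLE @Flat f inferInstance ⟨U, hU⟩ ⟨W, hW⟩ e
  refine Module.FaithfullyFlat.of_comap_surjective fun P => ?_
  obtain ⟨y, hy, hyP⟩ := hs (show hU.fromSpec P ∈ U from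
    SetLike.mem_coe.mp (hU.range_fromSpec ▸ Set.mem_range_self P))
  obtain ⟨Q, rfl⟩ : y ∈ Set.range hW.fromSpec := by rw [hW.range_fromSpec]; exact hy
  refine ⟨Q, hU.isOpenImmersion_fromSpec.base_open.injective ?_⟩
  show hU.fromSpec (Spec.map (f.appLE U W e) Q) = hU.fromSpec P
  rw [← hyP, ← Scheme.Hom.comp_apply, IsAffineOpen.SpecMap_appLE_fromSpec f hU hW e, Scheme.Hom.comp_apply]

theorem mem_of_map_mem_span {A B : Type u} [CommRing A] [CommRing B] (φ : A →+* B)
    (hφ : letI := φ.toAlgebra; Module.FaithfullyFlat A B) (J : Ideal A) {a : A} (h : φ a ∈ J.map φ) : a ∈ J := by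
  letI := φ.toAlgebra
  rw [← Ideal.comap_map_eq_self_of_faithfullyFlat (A := A) (B := B) J]
  exact h

theorem mem_nonZeroDivisors_of_faithfullyFlat {A B : Type u} [CommRing A] [CommRing B] (φ : A →+* B)
    (hφ : letI := φ.toAlgebra; Module.FaithfullyFlat A B) {a : A} (h : φ a ∈ nonZeroDivisors B) :
    a ∈ nonZeroDivisors A := by
  rw [mem_nonZeroDivisors_iff_right]
  intro x hx
  have h1 : φ x = 0 := (mem_nonZeroDivisors_iff_right.mp h) _ (by rw [← map_mul, hx, map_zero])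
  have h2 := mem_of_map_mem_span φ hφ ⊥ (a := x) (by rw [Ideal.map_bot, Ideal.mem_bot, h1])
  simpa using h2

/-- An effective Cartier ideal upstairs gives a generator around every point of the image. -/
theorem exists_generator_of_comap (f : X ⟶ Y) [Flat f] (hopen : IsOpenMap f) {I : Y.IdealSheafData}
    (h : BlowUp.IsEffCartierIdeal (I.comap f)) (y : X) :
    ∃ U : Y.affineOpens, f y ∈ U.1 ∧ ∃ a : Γ(Y, U.1), a ∈ nonZeroDivisors Γ(Y, U.1) ∧ I.ideal U = Ideal.span {a} := by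
  obtain ⟨U, hU, hxU, -⟩ := exists_isAffineOpen_mem_and_subset (X := Y) (x := f y) (U := ⊤) trivial
  obtain ⟨W, hyW, hWU, b, hb, hIb⟩ := Groth.Divisors.exists_generator h y (f ⁻¹ᵁ U) hxU
  set φ := (f.appLE U W.1 hWU).hom
  have hI : (I.comap f).ideal W = (I.ideal ⟨U, hU⟩).map φ :=
    Groth.BlowUpBasics.ideal_comap f I ⟨U, hU⟩ W hWU
  -- some element of `I` generates near `y`
  obtain ⟨a, ha, c, hac, hcy⟩ : ∃ a ∈ I.ideal ⟨U, hU⟩, ∃ c, φ a = c * b ∧ y ∈ X.basicOpen c := by
    by_contra hno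
    let Q := W.2.primeIdealOf ⟨y, hyW⟩
    have hQ : ∀ c : Γ(X, W.1), c ∉ Q.asIdeal → y ∈ X.basicOpen c := fun c hc => by
      have h1 : W.2.fromSpec Q ∈ X.basicOpen c := by
        have : Q ∈ W.2.fromSpec ⁻¹ᵁ X.basicOpen c := by
          rw [W.2.fromSpec_preimage_basicOpen]; exact hc
        exact this
      rwa [W.2.fromSpec_primeIdealOf] at h1
    have hbQ : (I.ideal ⟨U, hU⟩).map φ ≤ Ideal.span {b} * Q.asIdeal := by
      rw [Ideal.map_le_iff_le_comap]
      intro a ha
      have h1 : φ a ∈ Ideal.span {b} := by rw [← hIb, hI]; exact Ideal.mem_map_of_mem _ ha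
      obtain ⟨c, hc⟩ := Ideal.mem_span_singleton'.mp h1
      by_cases hcQ : c ∈ Q.asIdeal
      · rw [Ideal.mem_comap, ← hc, mul_comm c b]
        exact Ideal.mul_mem_mul (Ideal.mem_span_singleton_self b) hcQ
      · exact absurd ⟨a, ha, c, hc.symm, hQ c hcQ⟩ hno
    rw [← hI, hIb, Ideal.span_le, Set.singleton_subset_iff, SetLike.mem_coe,
      Ideal.mem_span_singleton_mul] at hbQ
    obtain ⟨z, hz, hbz⟩ := hbQ
    have h1 : (1 - z) * b = 0 := by rw [sub_mul, one_mul, mul_comm, hbz, sub_self]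
    have h2 := (mem_nonZeroDivisors_iff_right.mp hb.mem_nonZeroDivisors) _ h1
    rw [sub_eq_zero] at h2
    exact Q.isPrime.ne_top ((Ideal.eq_top_iff_one _).mpr (h2 ▸ hz))
  let O : Y.Opens := ⟨f '' (X.basicOpen c : X.Opens), hopen _ (X.basicOpen c).2⟩
  obtain ⟨g, hgO, hxg⟩ := hU.exists_basicOpen_le (V := O) ⟨f y, y, hcy, rfl⟩ hxU
  let U' : Y.affineOpens := ⟨Y.basicOpen g, hU.basicOpen g⟩
  let W' : X.affineOpens := ⟨X.basicOpen (c * φ g), W.2.basicOpen _⟩
  have hW'c : W'.1 ≤ X.basicOpen c := by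
    show X.basicOpen (c * φ g) ≤ _
    rw [Scheme.basicOpen_mul]; exact inf_le_left
  have hφg : X.basicOpen (φ g) = W.1 ⊓ f ⁻¹ᵁ Y.basicOpen g := by
    simp only [φ]; exact Scheme.basicOpen_appLE f W.1 U hWU g
  have hW'U' : W'.1 ≤ f ⁻¹ᵁ U'.1 := by
    show X.basicOpen (c * φ g) ≤ _
    rw [Scheme.basicOpen_mul, hφg]; exact inf_le_right.trans inf_le_right
  have hsurj : (U'.1 : Set Y) ⊆ f '' W'.1 := by
    intro x hx
    obtain ⟨z, hz, rfl⟩ := hgO hx
    refine ⟨z, ?_, rfl⟩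
    show z ∈ X.basicOpen (c * φ g)
    rw [Scheme.basicOpen_mul, hφg]
    exact ⟨hz, X.basicOpen_le c hz, hx⟩
  have hff := faithfullyFlat_appLE f U'.2 W'.2 hW'U' hsurj
  set ψ := (f.appLE U'.1 W'.1 hW'U').hom
  let r := (Y.presheaf.map (homOfLE (Y.basicOpen_le g)).op).hom
  let s := (X.presheaf.map (homOfLE (X.basicOpen_le (c * φ g))).op).hom
  have hcomm : ∀ z, ψ (r z) = s (φ z) := fun z => by
    simp only [ψ, r, s, φ, U', W', ← CommRingCat.comp_apply, Scheme.Hom.map_appLE, Scheme.Hom.appLE_map]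
  have hcu : IsUnit (s c) := by
    refine (X.toRingedSpace.isUnit_res_basicOpen (c * φ g) |> fun h => ?_)
    rw [map_mul] at h
    exact isUnit_of_mul_isUnit_left h
  have hsb : s b ∈ nonZeroDivisors Γ(X, W'.1) :=
    Groth.BlowUpBasics.restrict_mem_nonZeroDivisors (U := W) (V := W') (X.basicOpen_le _) hb.mem_nonZeroDivisors
  have hIW' : (I.ideal U').map ψ = Ideal.span {ψ (r a)} := by
    rw [← Groth.BlowUpBasics.ideal_comap f I U' W' hW'U', ← (I.comap f).map_ideal (U := W') (V := W) (X.basicOpen_le _),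
      hIb, Ideal.map_span, Set.image_singleton, hcomm, hac, map_mul]
    exact (Ideal.span_singleton_mul_left_unit hcu _).symm
  refine ⟨U', hxg, r a, mem_nonZeroDivisors_of_faithfullyFlat ψ hff ?_, le_antisymm ?_ ?_⟩
  · rw [hcomm, hac, map_mul]
    exact mul_mem hcu.mem_nonZeroDivisors hsb
  · intro z hz
    refine mem_of_map_mem_span ψ hff _ ?_
    rw [Ideal.map_span, Set.image_singleton, ← hIW']
    exact Ideal.mem_map_of_mem _ hz
  · rw [Ideal.span_le, Set.singleton_subset_iff, SetLike.mem_coe, ← I.map_ideal (U := U') (V := ⟨U, hU⟩) (Y.basicOpen_le g)]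
    exact Ideal.mem_map_of_mem _ ha

/-- Effective Cartier ideals descend along flat surjective open morphisms. -/
theorem isEffCartierIdeal_of_comap (f : X ⟶ Y) [Flat f] [Surjective f] (hopen : IsOpenMap f)
    {I : Y.IdealSheafData} (h : BlowUp.IsEffCartierIdeal (I.comap f)) : BlowUp.IsEffCartierIdeal I := by
  intro x
  obtain ⟨y, rfl⟩ := f.surjective x
  exact exists_generator_of_comap f hopen h y

theorem isEffCartierIdeal_of_comap_etale (f : X ⟶ Y) [Etale f] [Surjective f] {I : Y.IdealSheafData}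
    (h : BlowUp.IsEffCartierIdeal (I.comap f)) : BlowUp.IsEffCartierIdeal I :=
  isEffCartierIdeal_of_comap f f.isOpenMap h

end Groth.AlgSpCartier
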