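import Groth.Prelude.Def_AlgSpSub
import Groth.Agent.AlgSpBasic.RepWith
import Groth.Agent.AlgSpBasic.AlgSpace
import Groth.Agent.AlgSpCartier.Descent
import Mathlib.AlgebraicGeometry.IdealSheaf.Functorial

/-! Ideal sheaves of closed subspaces on charts; effective Cartier subspaces. -/

set_option autoImplicit false
set_option backward.isDefEq.respectTransparency.types false
universe u

open CategoryTheory CategoryTheory.Limits AlgebraicGeometry Opposite AlgSp

namespace Groth.AlgSpCartier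

variable {S : Scheme.{u}}

/-- The closed subscheme of an ideal sheaf, over `S`. -/
noncomputable abbrev subOver (U : Over S) (I : U.left.IdealSheafData) : Over S := Over.mk (I.subschemeι ≫ U.hom)

/-- Its inclusion. -/
noncomputable abbrev incl (U : Over S) (I : U.left.IdealSheafData) : subOver U I ⟶ U := Over.homMk I.subschemeι rfl

theorem comap_eq_of_isPullback {X D : Sp S} {i : D ⟶ X} {U W : Over S}
    {a : (yon S).obj U ⟶ X} {c : (yon S).obj W ⟶ X} {I : U.left.IdealSheafData} {J : W.left.IdealSheafData}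
    {fI : (yon S).obj (subOver U I) ⟶ D} {fJ : (yon S).obj (subOver W J) ⟶ D}
    (sqI : IsPullback fI ((yon S).map (incl U I)) i a) (sqJ : IsPullback fJ ((yon S).map (incl W J)) i c)
    (h : W ⟶ U) (hh : (yon S).map h ≫ a = c) : I.comap h.left = J := by
  obtain ⟨l, hl⟩ := (yon S).map_surjective (sqI.lift fJ ((yon S).map (incl W J) ≫ (yon S).map h)
    (by rw [Category.assoc, hh]; exact sqJ.w))
  have hbig : IsPullback ((yon S).map l ≫ fI) ((yon S).map (incl W J)) i ((yon S).map h ≫ a) := by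
    rw [hl, sqI.lift_fst, hh]; exact sqJ
  have sq : IsPullback ((yon S).map l) ((yon S).map (incl W J)) ((yon S).map (incl U I)) ((yon S).map h) :=
    IsPullback.of_right hbig (by rw [hl, sqI.lift_snd]) sqI
  have sq' : IsPullback l.left J.subschemeι I.subschemeι h.left :=
    Groth.AlgSpBasic.isPullback_left (Groth.AlgSpBasic.isPullback_of_yon sq)
  show (pullback.fst h.left I.subschemeι).ker = J
  rw [← Scheme.Hom.ker_comp_of_isIso sq'.flip.isoPullback.hom, sq'.flip.isoPullback_hom_fst,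
    Scheme.IdealSheafData.ker_subschemeι]

theorem exists_ideal {X D : Sp S} {i : D ⟶ X} (hi : RepWith @IsClosedImmersion i) {U : Over S}
    (a : (yon S).obj U ⟶ X) :
    ∃ (I : U.left.IdealSheafData) (fst : (yon S).obj (subOver U I) ⟶ D),
      IsPullback fst ((yon S).map (incl U I)) i a := by
  obtain ⟨V, g, fst, sq⟩ := hi.rep a
  haveI : IsClosedImmersion g.left := hi.property a fst g sq
  let e : V ≅ subOver U g.left.ker := Over.isoMk (asIso g.left.toImage) (by
    show g.left.toImage ≫ g.left.imageι ≫ U.hom = V.hom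
    rw [← Category.assoc, Scheme.Hom.toImage_imageι, Over.w g])
  refine ⟨g.left.ker, (yon S).map e.inv ≫ fst, IsPullback.of_iso sq ((yon S).mapIso e) (Iso.refl _) (Iso.refl _) (Iso.refl _) ?_ ?_ ?_ ?_⟩
  · simp [← Functor.map_comp_assoc]
  · simp only [Iso.refl_hom, Category.comp_id, Functor.mapIso_hom, ← Functor.map_comp]
    congr 1
    refine Over.OverMorphism.ext ?_
    show g.left = g.left.toImage ≫ g.left.imageι
    rw [Scheme.Hom.toImage_imageι]
  · simp
  · simp

theorem isEffCartierIdeal_of_isEffCartierSub {X D : Sp S} (hX : IsAlgSpace X) {i : D ⟶ X}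
    (h : IsEffCartierSub i) {U : Over S} (a : (yon S).obj U ⟶ X) (ha : RepWith @Etale a)
    (I : U.left.IdealSheafData) (fst : (yon S).obj (subOver U I) ⟶ D)
    (sq : IsPullback fst ((yon S).map (incl U I)) i a) : BlowUp.IsEffCartierIdeal I := by
  obtain ⟨hi, V, φ, I₀, fst₀, hφ, hφs, sq₀, hI₀⟩ := h
  obtain ⟨W, p, q, sqW⟩ := Groth.AlgSpBasic.exists_pullback_yon (Groth.AlgSpBasic.representable_of_diag hX.diag φ) a
  haveI : Surjective q.left := Groth.AlgSpBasic.repWith_fst_of_isPullback sqW hφs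
  haveI : Etale q.left := Groth.AlgSpBasic.repWith_fst_of_isPullback sqW hφ
  haveI : Etale p.left := Groth.AlgSpBasic.repWith_fst_of_isPullback sqW.flip ha
  obtain ⟨J, fJ, sqJ⟩ := exists_ideal hi ((yon S).map q ≫ a)
  have h1 : I.comap q.left = J := comap_eq_of_isPullback sq sqJ q rfl
  have h2 : I₀.comap p.left = J := comap_eq_of_isPullback sq₀ sqJ p sqW.w
  refine isEffCartierIdeal_of_comap_etale q.left ?_
  rw [h1, ← h2]
  exact Groth.BlowUpBasics.isEffCartierIdeal_comap_of_flat p.left hI₀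

theorem isEffCartierSub_of_forall {X D : Sp S} (hX : IsAlgSpace X) {i : D ⟶ X} (hi : RepWith @IsClosedImmersion i)
    (h : ∀ (U : Over S) (a : (yon S).obj U ⟶ X), RepWith @Etale a →
      ∀ (I : U.left.IdealSheafData) (fst : (yon S).obj (subOver U I) ⟶ D),
        IsPullback fst ((yon S).map (incl U I)) i a → BlowUp.IsEffCartierIdeal I) : IsEffCartierSub i := by
  obtain ⟨V, φ, hφ, hφs⟩ := hX.atlas
  obtain ⟨I, fst, sq⟩ := exists_ideal hi φ
  exact ⟨hi, V, φ, I, fst, hφ, hφs, sq, h V φ hφ I fst sq⟩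

theorem isEffCartierSub_pullback {X Y D P : Sp S} (hX : IsAlgSpace X) (hY : IsAlgSpace Y) {f : X ⟶ Y}
    {i : D ⟶ Y} (hD : IsEffCartierSub i) {fst : P ⟶ D} {snd : P ⟶ X} (hP : IsPullback fst snd i f)
    (hf : ∀ ⦃U V : Over S⦄ (a : (yon S).obj U ⟶ X) (b : (yon S).obj V ⟶ Y) (h : U ⟶ V) (I : V.left.IdealSheafData),
      RepWith @Etale a → RepWith @Etale b → a ≫ f = (yon S).map h ≫ b →
      BlowUp.IsEffCartierIdeal I → (∃ fD, IsPullback fD ((yon S).map (incl V I)) i b) →
        BlowUp.IsEffCartierIdeal (I.comap h.left)) : IsEffCartierSub snd := by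
  have hsnd : RepWith @IsClosedImmersion snd := Groth.AlgSpBasic.repWith_of_isPullback hP hD.1
  obtain ⟨hi, V, φ, I₀, fst₀, hφ, hφs, sq₀, hI₀⟩ := hD
  obtain ⟨U, p, α, hp, hps, comm⟩ := Groth.AlgSpBasic.exists_chart_over hX hY.diag f φ hφ hφs
  obtain ⟨J, fJ, sqJ⟩ := exists_ideal hsnd p
  have hJ : I₀.comap α.left = J := comap_eq_of_isPullback sq₀ (sqJ.paste_horiz hP) α comm.symm
  exact ⟨hsnd, U, p, J, fJ, hp, hps, sqJ, hJ ▸ hf p φ α I₀ hp hφ comm hI₀ ⟨fst₀, sq₀⟩⟩

theorem isEffCartierSub_pullback_of_flat {X Y D P : Sp S} (hX : IsAlgSpace X) (hY : IsAlgSpace Y) {f : X ⟶ Y}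
    (hflat : LocP @Flat f) {i : D ⟶ Y} (hD : IsEffCartierSub i) {fst : P ⟶ D} {snd : P ⟶ X}
    (hP : IsPullback fst snd i f) : IsEffCartierSub snd :=
  isEffCartierSub_pullback hX hY hD hP fun _ _ a b h _ ha hb comm hI _ =>
    haveI : Flat h.left := hflat a b h ha hb comm
    Groth.BlowUpBasics.isEffCartierIdeal_comap_of_flat h.left hI

end Groth.AlgSpCartier
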