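import Groth.Agent.S10275
import Groth.Agent.S10276
import Groth.Agent.S10277
import Groth.Agent.AlgSpBasic.ClosedQC
import Groth.Agent.AlgSpBasic.LocPInst
import Groth.Agent.AlgSpBasic.Points

/-! Closed subspaces proper over a base. -/

set_option autoImplicit false
set_option backward.isDefEq.respectTransparency.types false
universe u

open CategoryTheory CategoryTheory.Limits AlgebraicGeometry AlgSp Groth.AlgSpBasic

namespace Groth.AlgSpCartier

variable {S : Scheme.{u}}

theorem isUnivClosedMor_of_surjective {X Y W : Sp S} {f : X ⟶ Y} {q : Y ⟶ W} (hs : IsSurjectiveMor f)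
    (h : IsUnivClosedMor (f ≫ q)) : IsUnivClosedMor q := by
  intro T T' hT t fst snd sq
  have hP := IsPullback.of_hasPullback f fst
  have hsf : Function.Surjective (Points.map (pullback.snd f fst)) := by
    rw [← Set.range_eq_univ, range_map_eq_of_isPullback hP, Set.range_eq_univ.2 hs, Set.preimage_univ]
  have h1 := h hT t _ _ (hP.paste_vert sq)
  show IsClosedMap (Points.map snd)
  intro C hC
  have e : Points.map (pullback.snd f fst ≫ snd) = Points.map snd ∘ Points.map (pullback.snd f fst) :=
    funext fun x => Points.map_comp _ _ x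
  rw [← Set.image_preimage_eq C hsf, ← Set.image_comp, ← e]
  exact h1 _ (hC.preimage (Points.continuous_map _))

theorem isProperMor_of_surjective {X Y W : Space S} {f : X ⟶ Y} {q : Y ⟶ W} (hs : IsSurjectiveMor f.hom)
    (hc : IsUnivClosedMor f.hom) (hq : LocP @LocallyOfFiniteType q.hom) (h : IsProperMor (f ≫ q).hom) :
    IsProperMor q.hom := by
  obtain ⟨h₁, -, h₃⟩ := h
  have hu := isUnivClosedMor_of_surjective hs h₃
  exact ⟨isSeparatedMor_of_surjective X.property Y.property W.property hs hc h₁,
    ⟨hq, isQuasiCompactMor_of_univClosed Y.property W.property hu⟩, hu⟩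

theorem locP_lft_comp_closedImmersion {Z X Y : Space S} {i : Z ⟶ X} {f : X ⟶ Y}
    (hi : RepWith @IsClosedImmersion i.hom) (hf : LocP @LocallyOfFiniteType f.hom) :
    LocP @LocallyOfFiniteType (i ≫ f).hom :=
  locP_comp Z.property X.property Y.property
    (locP_of_repWith (repWith_mono (fun _ _ g (_ : IsClosedImmersion g) =>
      (inferInstance : LocallyOfFiniteType g)) hi)) hf

theorem isProperMor_of_range_eq {X Y Z Z' : Space S} (f : X ⟶ Y) (hf : LocP @LocallyOfFiniteType f.hom)
    (i : Z ⟶ X) (i' : Z' ⟶ X) (hi : RepWith @IsClosedImmersion i.hom) (hi' : RepWith @IsClosedImmersion i'.hom)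
    (heq : Set.range (Points.map i.hom) = Set.range (Points.map i'.hom))
    (hZ : IsProperMor (i ≫ f).hom) : IsProperMor (i' ≫ f).hom := by
  have sq := IsPullback.of_hasPullback i.hom i'.hom
  let W : Space S := ⟨pullback i.hom i'.hom, isAlgSpace_of_isPullback sq X.property.diag Z.property Z'.property⟩
  let p : W ⟶ Z := ObjectProperty.homMk (pullback.fst i.hom i'.hom)
  let q : W ⟶ Z' := ObjectProperty.homMk (pullback.snd i.hom i'.hom)
  have hq : RepWith @IsClosedImmersion q.hom := repWith_of_isPullback sq hi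
  have hqs : IsSurjectiveMor q.hom := by
    show Function.Surjective (Points.map (pullback.snd i.hom i'.hom))
    rw [← Set.range_eq_univ, range_map_eq_of_isPullback sq, heq]
    exact Set.eq_univ_of_forall fun z => ⟨z, rfl⟩
  have hw : q ≫ (i' ≫ f) = p ≫ (i ≫ f) := by
    ext : 1
    show pullback.snd i.hom i'.hom ≫ i'.hom ≫ f.hom = pullback.fst i.hom i'.hom ≫ i.hom ≫ f.hom
    rw [← Category.assoc, ← pullback.condition, Category.assoc]
  refine isProperMor_of_surjective hqs (Groth.Agent.S10277.result q hq).2.2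
    (locP_lft_comp_closedImmersion hi' hf) ?_
  rw [hw]
  exact Groth.Agent.S10276.result p _ (Groth.Agent.S10277.result p (repWith_of_isPullback sq.flip hi')) hZ

theorem isProperMor_baseChange_closed {X Y X' Y' Z Z' : Space S} {f : X ⟶ Y} {g : Y' ⟶ Y} {f' : X' ⟶ Y'}
    {g' : X' ⟶ X} (hsq : IsPullback g'.hom f'.hom f.hom g.hom) {i : Z ⟶ X} (hZ : IsProperMor (i ≫ f).hom)
    {i' : Z' ⟶ X'} {q : Z' ⟶ Z} (hsq' : IsPullback q.hom i'.hom i.hom g'.hom) :
    IsProperMor (i' ≫ f').hom :=
  Groth.Agent.S10275.result (i ≫ f) g q (i' ≫ f') (hsq'.paste_vert hsq) hZ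

end Groth.AlgSpCartier
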