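import Groth.Agent.AlgSpCartier.ClosedSub
import Groth.Agent.AlgSpCartier.ProperSub
import Groth.Agent.AlgSpBasic.Proper
import Groth.Agent.AlgSpBasic.Immersion

/-! Elementary properties of scheme theoretic images and reduced induced subspaces. -/

set_option autoImplicit false
set_option backward.isDefEq.respectTransparency.types false
universe u

open CategoryTheory CategoryTheory.Limits AlgebraicGeometry Opposite AlgSp Topology Groth.AlgSpBasic

namespace Groth.AlgSpCartier

noncomputable section

variable {S : Scheme.{u}} {X : Sp S}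

theorem isClosed_range_map (hX : IsAlgSpace X) {Z : Sp S} {i : Z ⟶ X}
    (hi : RepWith @IsClosedImmersion i) : IsClosed (Set.range (Points.map i)) := by
  obtain ⟨V, φ, hφ, hφs⟩ := hX.atlas
  obtain ⟨I, fst, sq⟩ := exists_ideal hi φ
  rw [← (isQuotientMap_ofPt hφ hφs).isCoinducing.isClosed_preimage, ← range_left_eq_preimage sq]
  exact I.subschemeι.isClosedEmbedding.isClosed_range

theorem isReducedSp_of_iso {F G : Sp S} (e : F ≅ G) (h : IsReducedSp F) : IsReducedSp G := by
  obtain ⟨U, p, h₁, h₂, hU⟩ := h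
  exact ⟨U, p ≫ e.hom, MorphismProperty.RespectsIso.postcomp _ _ _ h₁,
    MorphismProperty.RespectsIso.postcomp _ _ _ h₂, hU⟩

/-- Two monomorphisms factoring through each other have isomorphic sources. -/
theorem exists_iso_of_lifts {Z Z' : Sp S} {i : Z ⟶ X} {i' : Z' ⟶ X} [Mono i] [Mono i'] (k : Z ⟶ Z')
    (hk : k ≫ i' = i) (l : Z' ⟶ Z) (hl : l ≫ i = i') : ∃ e : Z ≅ Z', e.hom ≫ i' = i :=
  ⟨⟨k, l, by rw [← cancel_mono i, Category.assoc, hl, hk, Category.id_comp],
    by rw [← cancel_mono i', Category.assoc, hk, hl, Category.id_comp]⟩, hk⟩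

/-- The scheme theoretic image of a morphism from a reduced space is the reduced structure on the
closure of its image. -/
theorem isRedInduced_of_isSchImage (hX : IsAlgSpace X) {Y Z : Sp S} (hYr : IsReducedSp Y) {f : Y ⟶ X}
    {i : Z ⟶ X} (h : IsSchImage f i) :
    IsRedInduced (closure (Set.range (Points.map f))) i := by
  obtain ⟨hi, ⟨f', hf'⟩, hmin⟩ := h
  obtain ⟨R, r, hR, hr, hrT, hRr⟩ :=
    exists_isRedInduced hX (isClosed_closure (s := Set.range (Points.map f)))
  have := repWith_mono_closedImmersion hi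
  have := repWith_mono_closedImmersion hr
  obtain ⟨k, hk⟩ := hmin r hR hr
    (exists_lift_of_range_closedImmersion hr hYr f (hrT ▸ subset_closure))
  obtain ⟨l, hl⟩ := exists_lift_of_range_closedImmersion hi hRr r (by
    rw [hrT]
    refine closure_minimal ?_ (isClosed_range_map hX hi)
    rintro _ ⟨y, rfl⟩
    exact ⟨Points.map f' y, by rw [← Points.map_comp, hf']⟩)
  obtain ⟨e, he⟩ := exists_iso_of_lifts k hk l hl
  refine ⟨hi, ?_, isReducedSp_of_iso e.symm hRr⟩
  rw [← hrT]
  refine subset_antisymm ?_ ?_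
  · rintro _ ⟨z, rfl⟩
    exact ⟨Points.map k z, by rw [← Points.map_comp, hk]⟩
  · rintro _ ⟨z, rfl⟩
    exact ⟨Points.map l z, by rw [← Points.map_comp, hl]⟩

theorem isPullback_of_comp_mono {A B T W Y : Sp S} {h : A ⟶ B} {t : T ⟶ B} {fst : W ⟶ A}
    {snd : W ⟶ T} (i : B ⟶ Y) [Mono i] (sq : IsPullback fst snd h t) :
    IsPullback fst snd (h ≫ i) (t ≫ i) := by
  refine ⟨⟨by rw [← Category.assoc, sq.w, Category.assoc]⟩,
    ⟨PullbackCone.IsLimit.mk _ (fun c => sq.lift c.fst c.snd (by
      rw [← cancel_mono i, Category.assoc, Category.assoc]; exact c.condition))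
      (fun c => sq.lift_fst _ _ _) (fun c => sq.lift_snd _ _ _)
      fun c m h₁ h₂ => sq.hom_ext (by rw [h₁, sq.lift_fst]) (by rw [h₂, sq.lift_snd])⟩⟩

theorem isUnivClosedMor_of_mono_comp {A B Y : Sp S} {h : A ⟶ B} {i : B ⟶ Y} [Mono i]
    (hc : IsUnivClosedMor (h ≫ i)) : IsUnivClosedMor h :=
  fun _ _ hT t fst snd sq => hc hT (t ≫ i) fst snd (isPullback_of_comp_mono i sq)

theorem isClosed_range_of_isUnivClosedMor (hX : IsAlgSpace X) {A : Sp S} {f : A ⟶ X}
    (hc : IsUnivClosedMor f) : IsClosed (Set.range (Points.map f)) :=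
  (hc hX (𝟙 X) (𝟙 A) f (IsPullback.of_horiz_isIso ⟨by simp⟩)).isClosed_range

/-- A morphism of spaces over a base from a proper space to a separated space is proper. -/
theorem isProperMor_of_comp {A Y B : Space S} (f : A ⟶ Y) (g : Y ⟶ B) (hg : IsSeparatedMor g.hom)
    (h : IsProperMor (f ≫ g).hom) : IsProperMor f.hom := by
  have sqP := IsPullback.of_hasPullback (f.hom ≫ g.hom) g.hom
  let P : Space S := ⟨pullback (f.hom ≫ g.hom) g.hom,
    isAlgSpace_of_isPullback sqP B.property.diag A.property Y.property⟩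
  let Γ : A ⟶ P := ObjectProperty.homMk (pullback.lift (𝟙 A.obj) f.hom (by simp))
  let q : P ⟶ Y := ObjectProperty.homMk (pullback.snd (f.hom ≫ g.hom) g.hom)
  have hm := repWith_mapDesc f.hom (𝟙 Y.obj) g.hom hg
  have hΓ : RepWith @IsClosedImmersion Γ.hom := by
    have eΓ : Γ.hom = inv (pullback.fst f.hom (𝟙 Y.obj)) ≫ pullback.mapDesc f.hom (𝟙 Y.obj) g.hom ≫
        (pullback.congrHom rfl (Category.id_comp g.hom)).hom := by
      rw [IsIso.eq_inv_comp]
      apply pullback.hom_ext
      · erw [Category.assoc, pullback.lift_fst, Category.assoc, pullback.congrHom_hom, pullback.lift_fst,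
          Category.comp_id, Category.comp_id, pullback.lift_fst, Category.comp_id]
      · erw [Category.assoc, pullback.lift_snd, Category.assoc, pullback.congrHom_hom, pullback.lift_snd,
          Category.comp_id, pullback.lift_snd, Category.comp_id, pullback.condition, Category.comp_id]
    rw [eΓ]
    exact MorphismProperty.RespectsIso.precomp _ _ _
      (MorphismProperty.RespectsIso.postcomp _ _ _ hm)
  have hq : IsProperMor q.hom :=
    Groth.Agent.S10275.result (f ≫ g) g (ObjectProperty.homMk (pullback.fst _ _) : P ⟶ A) q sqP h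
  have e2 : Γ ≫ q = f := by
    ext : 1
    exact pullback.lift_snd _ _ _
  rw [← e2]
  exact Groth.Agent.S10276.result Γ q (Groth.Agent.S10277.result Γ hΓ) hq

/-- The image of a closed subspace proper over the base under a universally closed map. -/
theorem exists_image_proper {A Y B : Space S} (g : A ⟶ Y) (b : Y ⟶ B)
    (hb : LocP @LocallyOfFiniteType b.hom) (hgc : IsUnivClosedMor g.hom)
    (hA : IsProperMor (g ≫ b).hom) :
    IsClosed (Set.range (Points.map g.hom)) ∧
      ∃ (Z' : Space S) (i' : Z' ⟶ Y), RepWith @IsClosedImmersion i'.hom ∧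
        Set.range (Points.map i'.hom) = Set.range (Points.map g.hom) ∧ IsProperMor (i' ≫ b).hom := by
  have hT := isClosed_range_of_isUnivClosedMor Y.property hgc
  obtain ⟨Ar, r, hAr, hr, hru, hArr⟩ :=
    exists_isRedInduced A.property (isClosed_univ (X := Points A.obj))
  obtain ⟨Z', i', hZ', hi', hiT, -⟩ := exists_isRedInduced Y.property hT
  let Ar' : Space S := ⟨Ar, hAr⟩
  let Z'' : Space S := ⟨Z', hZ'⟩
  let rr : Ar' ⟶ A := ObjectProperty.homMk r
  let ii : Z'' ⟶ Y := ObjectProperty.homMk i'
  refine ⟨hT, Z'', ii, hi', hiT, ?_⟩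
  have := repWith_mono_closedImmersion hi'
  have hrange : Set.range (Points.map (r ≫ g.hom)) = Set.range (Points.map g.hom) := by
    rw [show Points.map (r ≫ g.hom) = Points.map g.hom ∘ Points.map r from
      funext fun _ => Points.map_comp _ _ _, Set.range_comp, hru, Set.image_univ]
  obtain ⟨h, hh⟩ := exists_lift_of_range_closedImmersion hi' hArr (r ≫ g.hom)
    (by rw [hiT, hrange])
  have hmono : Function.Injective (Points.map i') :=
    (isEmbedding_map_of_immersion Y.property
      (repWith_mono (fun _ _ k (_ : IsClosedImmersion k) => (inferInstance : IsImmersion k)) hi')).1.injective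
  have hs : IsSurjectiveMor h := by
    intro z
    obtain ⟨a, ha⟩ : Points.map i' z ∈ Set.range (Points.map (r ≫ g.hom)) := by
      rw [hrange, ← hiT]; exact ⟨z, rfl⟩
    exact ⟨a, hmono (by rw [← Points.map_comp, hh, ha])⟩
  have hc : IsUnivClosedMor h := isUnivClosedMor_of_mono_comp (i := i') (by
    rw [hh]
    exact isUnivClosedMor_comp A.property Y.property (Groth.Agent.S10277.result rr hr).2.2 hgc)
  refine isProperMor_of_surjective (f := (ObjectProperty.homMk h : Ar' ⟶ Z'')) hs hc
    (locP_lft_comp_closedImmersion hi' hb) ?_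
  have e : (ObjectProperty.homMk h : Ar' ⟶ Z'') ≫ (ii ≫ b) = rr ≫ (g ≫ b) := by
    ext : 1
    show h ≫ i' ≫ b.hom = r ≫ g.hom ≫ b.hom
    rw [← Category.assoc, hh, Category.assoc]
  rw [e]
  exact Groth.Agent.S10276.result rr _ (Groth.Agent.S10277.result rr hr) hA

theorem repWith_of_comp_mono {A B Y : Sp S} {h : A ⟶ B} {i : B ⟶ Y} [Mono i]
    {P : MorphismProperty Scheme.{u}} (hc : RepWith P (h ≫ i)) : RepWith P h := by
  have sq := isPullback_of_comp_mono i (IsPullback.id_horiz h)
  rw [Category.id_comp] at sq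
  exact repWith_of_isPullback sq hc

theorem isUnivClosedMor_of_repWith_closedImmersion {A B : Space S} (i : A ⟶ B)
    (hi : RepWith @IsClosedImmersion i.hom) : IsUnivClosedMor i.hom :=
  (Groth.Agent.S10277.result i hi).2.2

/-- Being universally closed can be checked on a finite covering family. -/
theorem isUnivClosedMor_of_closedCover {ι : Type} [Finite ι] {W : ι → Sp S} {A B : Sp S}
    (r : ∀ k, W k ⟶ A) (hr : ⋃ k, Set.range (Points.map (r k)) = Set.univ) {q : A ⟶ B}
    (h : ∀ k, IsUnivClosedMor (r k ≫ q)) : IsUnivClosedMor q := by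
  intro T T' hT t fst snd sq
  show IsClosedMap (Points.map snd)
  intro C hC
  have hP := fun k => IsPullback.of_hasPullback (r k) fst
  have e : ∀ k, Points.map (pullback.snd (r k) fst ≫ snd) =
      Points.map snd ∘ Points.map (pullback.snd (r k) fst) :=
    fun k => funext fun x => Points.map_comp _ _ x
  have hcover : ∀ x, ∃ k, x ∈ Set.range (Points.map (pullback.snd (r k) fst)) := fun x => by
    obtain ⟨k, hk⟩ := Set.mem_iUnion.1 (hr.ge (Set.mem_univ (Points.map fst x)))
    exact ⟨k, by rw [range_map_eq_of_isPullback (hP k)]; exact hk⟩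
  have hC' : Points.map snd '' C = ⋃ k, Points.map (pullback.snd (r k) fst ≫ snd) ''
      (Points.map (pullback.snd (r k) fst) ⁻¹' C) := by
    ext y
    simp only [Set.mem_iUnion, Set.mem_image, Set.mem_preimage, e, Function.comp_apply]
    constructor
    · rintro ⟨x, hx, rfl⟩
      obtain ⟨k, w, rfl⟩ := hcover x
      exact ⟨k, w, hx, rfl⟩
    · rintro ⟨k, w, hw, rfl⟩
      exact ⟨_, hw, rfl⟩
  rw [hC']
  exact isClosed_iUnion_of_finite fun k =>
    h k hT t _ _ ((hP k).paste_vert sq) _ (hC.preimage (Points.continuous_map _))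

/-- Separatedness can be checked on a finite covering family of closed subspaces. -/
theorem isSeparatedMor_of_closedCover {ι : Type} [Finite ι] {W : ι → Space S} {A B : Space S}
    (r : ∀ k, W k ⟶ A) (hr : ∀ k, RepWith @IsClosedImmersion (r k).hom)
    (hcov : ⋃ k, Set.range (Points.map (r k).hom) = Set.univ) (q : A ⟶ B)
    (h : ∀ k, IsSeparatedMor (r k ≫ q).hom) : IsSeparatedMor q.hom := by
  have hu : IsUnivClosedMor (pullback.diagonal q.hom) := by
    refine isUnivClosedMor_of_closedCover (fun k => (r k).hom) hcov fun k => ?_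
    let PA : Space S := ⟨pullback q.hom q.hom, isAlgSpace_pullback A A B q.hom q.hom⟩
    let PW : Space S := ⟨pullback ((r k).hom ≫ q.hom) ((r k).hom ≫ q.hom),
      isAlgSpace_pullback (W k) (W k) B _ _⟩
    let m : pullback ((r k).hom ≫ q.hom) ((r k).hom ≫ q.hom) ⟶ pullback q.hom q.hom :=
      pullback.map _ _ _ _ (r k).hom (r k).hom (𝟙 _) (Category.comp_id _) (Category.comp_id _)
    have hm : RepWith @IsClosedImmersion m := MorphismProperty.pullbackMap (hr k) (hr k) rfl rfl
    let mm : PW ⟶ PA := ObjectProperty.homMk m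
    let d : W k ⟶ PW := ObjectProperty.homMk (pullback.diagonal ((r k).hom ≫ q.hom))
    have e : (r k).hom ≫ pullback.diagonal q.hom = d.hom ≫ m := by
      apply pullback.hom_ext
      · simp only [d, m, pullback.map, Category.assoc]
        erw [pullback.diagonal_fst, Category.comp_id, pullback.lift_fst, pullback.diagonal_fst_assoc]
      · simp only [d, m, pullback.map, Category.assoc]
        erw [pullback.diagonal_snd, Category.comp_id, pullback.lift_snd, pullback.diagonal_snd_assoc]
    rw [e]
    exact isUnivClosedMor_comp PW.property PA.property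
      (isUnivClosedMor_of_repWith_closedImmersion d (h k))
      (isUnivClosedMor_of_repWith_closedImmersion mm hm)
  have hu' : RepWith @UniversallyClosed (pullback.diagonal q.hom) := by
    refine repWith_of_univSp universallyClosed_eq (fun U V k hk => ?_)
      (monoLFT_diagonal A.property q.hom).rep hu
    exact topologically_of_map_yon (φ := @fun α β _ _ => @IsClosedMap α β _ _) k
      ((Points.schemeHomeo V).symm.isClosedMap.comp
        (hk.comp (Points.schemeHomeo U).isClosedMap))
  refine repWith_mono ?_ (repWith_inf_iff.2 ⟨monoLFT_diagonal A.property q.hom, hu'⟩)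
  rintro U V g ⟨⟨hm, hl⟩, hg⟩
  have i₁ : Mono g := hm
  have i₂ : LocallyOfFiniteType g := hl
  have i₃ : UniversallyClosed g := hg
  rw [IsClosedImmersion.iff_isProper_and_mono]
  exact ⟨{ }, i₁⟩

/-- Properness can be checked on a finite covering family of closed subspaces. -/
theorem isProperMor_of_closedCover {ι : Type} [Finite ι] {W : ι → Space S} {A B : Space S}
    (r : ∀ k, W k ⟶ A) (hr : ∀ k, RepWith @IsClosedImmersion (r k).hom)
    (hcov : ⋃ k, Set.range (Points.map (r k).hom) = Set.univ) (q : A ⟶ B)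
    (hq : LocP @LocallyOfFiniteType q.hom) (h : ∀ k, IsProperMor (r k ≫ q).hom) : IsProperMor q.hom := by
  have hu : IsUnivClosedMor q.hom :=
    isUnivClosedMor_of_closedCover (fun k => (r k).hom) hcov fun k => (h k).2.2
  exact ⟨isSeparatedMor_of_closedCover r hr hcov q fun k => (h k).1,
    ⟨hq, isQuasiCompactMor_of_univClosed A.property B.property hu⟩, hu⟩

/-- A finite union of closed subspaces proper over the base is proper over the base. -/
theorem exists_union_proper {A B : Space S} (f : A ⟶ B) (hf : LocP @LocallyOfFiniteType f.hom)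
    {ι : Type} [Finite ι] (Z : ι → Space S) (i : ∀ k, Z k ⟶ A)
    (hi : ∀ k, RepWith @IsClosedImmersion (i k).hom) (hZ : ∀ k, IsProperMor (i k ≫ f).hom) :
    ∃ (W : Space S) (j : W ⟶ A), RepWith @IsClosedImmersion j.hom ∧
      Set.range (Points.map j.hom) = ⋃ k, Set.range (Points.map (i k).hom) ∧
      IsProperMor (j ≫ f).hom := by
  have hcl : ∀ k, IsClosed (Set.range (Points.map (i k).hom)) :=
    fun k => isClosed_range_map A.property (hi k)
  obtain ⟨W₀, j₀, hW₀, hj, hjT, -⟩ :=
    exists_isRedInduced A.property (isClosed_iUnion_of_finite hcl)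
  choose R₀ s₀ hR₀ hs hsT hsr using fun k => exists_isRedInduced A.property (hcl k)
  let W : Space S := ⟨W₀, hW₀⟩
  let j : W ⟶ A := ObjectProperty.homMk j₀
  let R (k : ι) : Space S := ⟨R₀ k, hR₀ k⟩
  have := repWith_mono_closedImmersion hj
  have hex : ∀ k, ∃ l, l ≫ j₀ = s₀ k := fun k =>
    exists_lift_of_range_closedImmersion hj (hsr k) (s₀ k)
      (by rw [hsT, hjT]; exact Set.subset_iUnion_of_subset k subset_rfl)
  choose l hl using hex
  refine ⟨W, j, hj, hjT, isProperMor_of_closedCover (fun k => (ObjectProperty.homMk (l k) : R k ⟶ W))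
    (fun k => repWith_of_comp_mono (i := j₀) (by show RepWith @IsClosedImmersion (l k ≫ j₀); rw [hl]; exact hs k)) ?_ (j ≫ f)
    (locP_lft_comp_closedImmersion hj hf) fun k => ?_⟩
  · refine Set.eq_univ_of_forall fun w => ?_
    obtain ⟨k, hk⟩ := Set.mem_iUnion.1 (hjT.le ⟨w, rfl⟩)
    rw [← hsT k] at hk
    obtain ⟨x, hx⟩ := hk
    refine Set.mem_iUnion.2 ⟨k, x, (isEmbedding_map_of_immersion A.property
      (repWith_mono (fun _ _ g (_ : IsClosedImmersion g) => (inferInstance : IsImmersion g)) hj)).1.injective ?_⟩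
    show Points.map j₀ (Points.map (l k) x) = _
    rw [← Points.map_comp, hl, hx]
  · have e : (ObjectProperty.homMk (l k) : R k ⟶ W) ≫ j ≫ f =
        (ObjectProperty.homMk (s₀ k) : R k ⟶ A) ≫ f := by
      ext : 1
      show l k ≫ j₀ ≫ f.hom = s₀ k ≫ f.hom
      rw [← Category.assoc, hl]
    rw [e]
    exact isProperMor_of_range_eq f hf (i k) (ObjectProperty.homMk (s₀ k) : R k ⟶ A) (hi k) (hs k)
      (hsT k).symm (hZ k)

end

end Groth.AlgSpCartier
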