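import Groth.Agent.AlgSpCartier.Chart
import Groth.Agent.Divisors.EffCartier

/-! Weakly associated points on affine charts and zero divisors. -/

set_option autoImplicit false
set_option backward.isDefEq.respectTransparency.types false
universe u

open CategoryTheory CategoryTheory.Limits AlgebraicGeometry Opposite AlgSp

namespace Groth.AlgSpCartier

variable {S : Scheme.{u}} {X : Sp S}

theorem primeAtPt_fromSpec (U : Scheme.{u}) [IsAffine U] (P : PrimeSpectrum Γ(U, ⊤)) :
    primeAtPt U ((isAffineOpen_top U).fromSpec P) = P.asIdeal := by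
  have h1 := (isAffineOpen_top U).primeIdealOf_eq_map_closedPoint ⟨(isAffineOpen_top U).fromSpec P, trivial⟩
  have h2 : (isAffineOpen_top U).primeIdealOf ⟨(isAffineOpen_top U).fromSpec P, trivial⟩ = P :=
    (isAffineOpen_top U).isOpenImmersion_fromSpec.base_open.injective
      ((isAffineOpen_top U).fromSpec_primeIdealOf _)
  rw [h2] at h1
  conv_rhs => rw [h1]
  rfl

/-- A zero divisor on an affine chart vanishes at a weakly associated point. -/
theorem exists_weakAssOn_of_mul_eq_zero (E : EtOver X) [IsAffine E.obj.left.left] {a b : Γ(E.obj.left.left, ⊤)}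
    (hab : b * a = 0) (hb : b ≠ 0) :
    ∃ u, IsWeakAssOn (unitModEt X) E u ∧ u ∉ E.obj.left.left.basicOpen a := by
  let s : sectModEt (unitModEt X) E := upΓ E b
  have hmem : ∀ c, c ∈ annSect s ↔ c * b = 0 := fun c => by
    rw [mem_annSect_iff]
    show upΓ E c * upΓ E b = 0 ↔ _
    rw [← map_mul]
    exact ⟨fun h => congrArg ULift.down h, fun h => by rw [h, map_zero]⟩
  have hne : annSect s ≠ ⊤ := fun h => hb (by
    simpa using (hmem 1).1 (h ▸ Submodule.mem_top))
  obtain ⟨⟨P, hP⟩⟩ := Ideal.nonempty_minimalPrimes hne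
  haveI := hP.1.1
  refine ⟨(isAffineOpen_top _).fromSpec ⟨P, hP.1.1⟩, ⟨s, ?_⟩, fun hu => ?_⟩
  · rwa [primeAtPt_fromSpec]
  · have h1 : a ∈ primeAtPt _ ((isAffineOpen_top E.obj.left.left).fromSpec ⟨P, hP.1.1⟩) := by
      rw [primeAtPt_fromSpec]
      exact hP.1.2 ((hmem a).2 (by rwa [mul_comm]))
    rw [primeAtPt, Ideal.mem_comap, IsLocalRing.mem_maximalIdeal, mem_nonunits_iff] at h1
    exact h1 ((E.obj.left.left.mem_basicOpen a _ trivial).1 hu)

theorem isEffCartierIdeal_comap_of_weakAss {Y D : Sp S} {f : X ⟶ Y} {i : D ⟶ Y}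
    (havoid : ∀ x ∈ WeakAssEt (unitModEt X), Points.map f x ∉ Set.range (Points.map i))
    {U V : Over S} (a : (yon S).obj U ⟶ X) (b : (yon S).obj V ⟶ Y) (h : U ⟶ V) {I : V.left.IdealSheafData}
    (ha : RepWith @Etale a) (comm : a ≫ f = (yon S).map h ≫ b) (hI : BlowUp.IsEffCartierIdeal I)
    {fD : (yon S).obj (subOver V I) ⟶ D} (sq : IsPullback fD ((yon S).map (incl V I)) i b) :
    BlowUp.IsEffCartierIdeal (I.comap h.left) := by
  intro u
  obtain ⟨W0, hW0, -, g, hg, hgI⟩ := Groth.Divisors.exists_generator hI (h.left u) ⊤ trivial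
  obtain ⟨W, hW, huW, hWle⟩ := exists_isAffineOpen_mem_and_subset (X := U.left) (x := u) (U := h.left ⁻¹ᵁ W0.1) hW0
  refine exists_generator_of_comap W.ι W.ι.isOpenEmbedding.isOpenMap ?_ ⟨u, huW⟩
  let T : Over S := Over.mk (W.ι ≫ U.hom)
  let k : T ⟶ U := Over.homMk W.ι rfl
  haveI : IsAffine W.toScheme := hW
  have hk : RepWith @Etale ((yon S).map k) := (repWith_yon_map_iff _ k).2 (inferInstance : Etale W.ι)
  let E : EtOver X := EtOver.mk ((yon S).map k ≫ a) (Groth.AlgSpBasic.repWith_comp hk ha)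
  haveI : IsAffine E.obj.left.left := hW
  have e : (⊤ : W.toScheme.Opens) ≤ (W.ι ≫ h.left) ⁻¹ᵁ W0.1 := fun x _ => hWle x.2
  rw [← Scheme.IdealSheafData.comap_comp]
  set c := (W.ι ≫ h.left).appLE W0.1 ⊤ e g with hc
  refine isEffCartierIdeal_of_top (f := c) ?_ ?_
  · rw [mem_nonZeroDivisors_iff_right]
    intro b' hb'
    by_contra hne
    obtain ⟨w, hw, hwc⟩ := exists_weakAssOn_of_mul_eq_zero E hb' hne
    refine havoid (Points.ofPt E.obj.hom w) ⟨E, hW, w, rfl, hw⟩ ?_
    have hv : (W.ι ≫ h.left) w ∈ I.support := by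
      by_contra hns
      refine hwc ?_
      rw [hc, Scheme.basicOpen_appLE]
      exact ⟨trivial, (V.left.mem_basicOpen g _ (e (trivial : w ∈ (⊤ : W.toScheme.Opens)))).2
        ((Groth.Divisors.not_mem_support_iff hgI (e (trivial : w ∈ (⊤ : W.toScheme.Opens)))).1 hns)⟩
    obtain ⟨z, hz⟩ : (W.ι ≫ h.left) w ∈ Set.range I.subschemeι := by
      rwa [Scheme.IdealSheafData.range_subschemeι]
    refine ⟨Points.ofPt fD z, ?_⟩
    rw [Points.map_ofPt, sq.w, Groth.AlgSpBasic.ofPt_comp_yon, Points.map_ofPt]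
    show Points.ofPt b (I.subschemeι z) = Points.ofPt (((yon S).map k ≫ a) ≫ f) w
    rw [hz, Category.assoc, comm, ← Category.assoc, ← Functor.map_comp, Groth.AlgSpBasic.ofPt_comp_yon]
    rfl
  · rw [Groth.BlowUpBasics.ideal_comap (W.ι ≫ h.left) I W0 ⟨⊤, isAffineOpen_top _⟩ e, hgI, Ideal.map_span,
      Set.image_singleton]

end Groth.AlgSpCartier
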