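import Groth.Agent.AlgSpCartier.ClosedSubProps
import Groth.Agent.AlgSp3.SchImage
import Groth.Agent.AlgSpBasic.LocPInst
import Groth.Prelude.Def_AlgSpModX

/-!
# Scheme theoretic images: reduced source, proper source, kernel ideals on the small etale site
-/

set_option autoImplicit false
set_option backward.isDefEq.respectTransparency.types false
universe u

open CategoryTheory CategoryTheory.Limits AlgebraicGeometry Opposite AlgSp Topology Groth.AlgSpBasic

namespace Groth.AlgSpCartier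

noncomputable section

variable {S : Scheme.{u}}

theorem isSchImage_of_iso {X Y Z Z' : Sp S} {f : Y ⟶ X} {i : Z ⟶ X} {i' : Z' ⟶ X} (h : IsSchImage f i)
    (e : Z ≅ Z') (he : e.hom ≫ i' = i) : IsSchImage f i' := by
  obtain ⟨hi, ⟨f', hf'⟩, hmin⟩ := h
  have e' : e.inv ≫ i = i' := by rw [← he, Iso.inv_hom_id_assoc]
  refine ⟨e' ▸ MorphismProperty.RespectsIso.precomp _ _ _ hi, ⟨f' ≫ e.hom, ?_⟩,
    fun W w hW hw hf => ?_⟩
  · rw [Category.assoc, he, hf']
  · obtain ⟨k, hk⟩ := hmin w hW hw hf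
    exact ⟨e.inv ≫ k, by rw [Category.assoc, hk, e']⟩

/-- For a reduced source, scheme theoretic images commute with etale base change. -/
theorem isSchImage_etale_baseChange_of_reduced {X Y Z V XV ZV : Sp S}
    (hY : IsAlgSpace Y) (hZ : IsAlgSpace Z) (hV : IsAlgSpace V) {f : X ⟶ Y} {i : Z ⟶ Y}
    (hXr : IsReducedSp X) (h : IsSchImage f i) {b : V ⟶ Y} (hb : IsEtaleMor b)
    {f₁ : XV ⟶ X} {fV : XV ⟶ V} {i₁ : ZV ⟶ Z} {iV : ZV ⟶ V}
    (sqX : IsPullback f₁ fV f b) (sqZ : IsPullback i₁ iV i b) : IsSchImage fV iV := by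
  have hb' := locP_of_isEtaleMor hb
  obtain ⟨hi, hrange, hZr⟩ := isRedInduced_of_isSchImage hY hXr h
  obtain ⟨-, ⟨f', hf'⟩, -⟩ := h
  have hiV : RepWith @IsClosedImmersion iV := repWith_of_isPullback sqZ hi
  have hZV := isAlgSpace_of_isPullback sqZ hY.diag hZ hV
  have hi₁ : LocP @Etale i₁ := locP_of_isPullback hV hY hZ sqZ.flip hb'
  have hZVr : IsReducedSp ZV :=
    Groth.AlgSp2.isReducedSp_of_smooth hZV hZ
      (fun U W a c k ha hc e => by have := hi₁ a c k ha hc e; infer_instance) hZr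
  have hopen : IsOpenMap (Points.map b) :=
    Groth.AlgSp2.isOpenMor_of_fppf hV hY
      (fun U W a c k ha hc e => by have := hb' a c k ha hc e; infer_instance)
      (fun U W a c k ha hc e => by have := hb' a c k ha hc e; infer_instance)
  refine ⟨hiV, ⟨sqZ.lift (f₁ ≫ f') fV (by rw [Category.assoc, hf', sqX.w]), sqZ.lift_snd _ _ _⟩,
    fun W w hW hw hfw => ?_⟩
  have := repWith_mono_closedImmersion hw
  refine exists_lift_of_range_closedImmersion hw hZVr iV ?_
  rw [range_map_eq_of_isPullback sqZ, hrange,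
    hopen.preimage_closure_eq_closure_preimage (Points.continuous_map b)]
  refine closure_minimal ?_ (isClosed_range_map hV hw)
  rw [← range_map_eq_of_isPullback sqX]
  obtain ⟨f'', rfl⟩ := hfw
  rintro _ ⟨x, rfl⟩
  exact ⟨Points.map f'' x, (Points.map_comp _ _ _).symm⟩

/-- The scheme theoretic image of a proper space in a separated one is proper. -/
theorem schImage_proper {X Y Z B : Space S} (h : X ⟶ Y) (g : Y ⟶ B)
    (hf : IsProperMor (h ≫ g).hom) (hg : IsSeparatedMor g.hom) (hg' : LocP @LocallyOfFiniteType g.hom)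
    (i : Z ⟶ Y) (hZ : IsSchImage h.hom i.hom) (h' : X ⟶ Z) (fac : h' ≫ i = h) :
    IsProperMor (i ≫ g).hom ∧ IsSurjectiveMor h'.hom := by
  obtain ⟨-, ⟨-, hq⟩, hc⟩ := isProperMor_of_comp h g hg hf
  have hi := hZ.1
  have := repWith_mono_closedImmersion hi
  have hinj := (isEmbedding_map_of_immersion Y.property
    (repWith_mono (fun _ _ k (_ : IsClosedImmersion k) => (inferInstance : IsImmersion k)) hi)).1.injective
  have fac' : h'.hom ≫ i.hom = h.hom := congrArg InducedCategory.Hom.hom fac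
  have hs : IsSurjectiveMor h'.hom := fun z => by
    have hz := Groth.AlgSp3.range_map_subset_closure_of_isSchImage Y.property X.property Z.property hq hZ
      ⟨z, rfl⟩
    rw [(isClosed_range_of_isUnivClosedMor Y.property hc).closure_eq] at hz
    obtain ⟨x, hx⟩ := hz
    exact ⟨x, hinj (by rw [← Points.map_comp, fac', hx])⟩
  refine ⟨isProperMor_of_surjective hs (isUnivClosedMor_of_mono_comp (i := i.hom) (by rw [fac']; exact hc))
    (locP_lft_comp_closedImmersion hi hg') ?_, hs⟩
  rw [← Category.assoc, fac]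
  exact hf

theorem quasiCompact_bcπ {X Y : Sp S} {f : Y ⟶ X} (hf : Representable f) (hq : IsQuasiCompactMor f)
    (E : EtOver X) : QuasiCompact (EtOver.bcπ hf E).left :=
  (repWith_of_isQuasiCompactMor hf hq).property _ _ _ (EtOver.isPullback_bcObj hf E)

theorem idealOfRep_eq_ker {X Y : Sp S} {f : Y ⟶ X} (hf : Representable f) (hq : IsQuasiCompactMor f)
    (E : EtOver X) (hE : IsAffine E.obj.left.left) :
    (idealOfRep hf).ideal E hE =
      (EtOver.bcπ hf E).left.ker.ideal ⟨⊤, isAffineOpen_top E.obj.left.left⟩ := by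
  have := quasiCompact_bcπ hf hq E
  rw [Scheme.Hom.ker_apply]
  rfl

theorem isQCoh_idealOfRep {X Y : Sp S} {f : Y ⟶ X} (hf : Representable f)
    (hq : IsQuasiCompactMor f) : (idealOfRep hf).IsQCoh := by
  intro E E' g hE hE'
  have := EtOver.etale_left g
  have := quasiCompact_bcπ hf hq E
  rw [idealOfRep_eq_ker hf hq E hE, idealOfRep_eq_ker hf hq E' hE',
    Groth.AlgSp3.ker_of_isPullback_of_flat (a := (EtOver.bcπ hf E).left) (g := g.hom.left.left)
      (a' := (EtOver.bcπ hf E').left) (EtOver.isPullback_bcMap_left hf g),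
    Groth.BlowUpBasics.ideal_comap g.hom.left.left _ ⟨⊤, isAffineOpen_top _⟩ ⟨⊤, isAffineOpen_top _⟩
      (le_of_eq rfl)]
  exact le_of_eq (by erw [Scheme.Hom.appLE_eq_app])

/-- The scheme theoretic image of a quasi-compact representable morphism is cut out by the kernel
ideals on the small etale site. -/
theorem idealOfRep_eq_of_isSchImage {X Y Z : Sp S} (hX : IsAlgSpace X) (hY : IsAlgSpace Y)
    (hZ : IsAlgSpace Z) {f : Y ⟶ X} (hf : Representable f) (hq : IsQuasiCompactMor f) {i : Z ⟶ X}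
    (h : IsSchImage f i) : idealOfRep h.1.1 = idealOfRep hf := by
  refine IdealEt.ext (funext fun E => funext fun hE => ?_)
  obtain ⟨I, fst, sqI⟩ := exists_ideal h.1 E.obj.hom
  rw [idealOfRep_ideal h.1 E hE I fst sqI, idealOfRep_eq_ker hf hq E hE]
  congr 1
  have hflat : LocP @Flat E.obj.hom :=
    locP_of_repWith (repWith_mono (fun _ _ k (_ : Etale k) => (inferInstance : Flat k)) E.property)
  obtain ⟨-, ⟨l, hl⟩, hmin⟩ := Groth.AlgSp3.isSchImage_of_flat_baseChange hX (IsAlgSpace.yon_obj _) hY hZ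
    hq h hflat (EtOver.isPullback_bcObj hf E) sqI
  obtain ⟨l, rfl⟩ := (yon S).map_surjective l
  refine le_antisymm ((exists_lift_incl_iff I _).1 ⟨l, (yon S).map_injective
    (by rw [Functor.map_comp, hl])⟩) ?_
  obtain ⟨m, hm⟩ := (exists_lift_incl_iff (EtOver.bcπ hf E).left.ker (EtOver.bcπ hf E)).2 le_rfl
  obtain ⟨k, hk⟩ := hmin ((yon S).map (incl _ (EtOver.bcπ hf E).left.ker)) (IsAlgSpace.yon_obj _)
    ((repWith_yon_map_iff _ _).2 (inferInstanceAs (IsClosedImmersion (EtOver.bcπ hf E).left.ker.subschemeι)))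
    ⟨(yon S).map m, by rw [← Functor.map_comp, hm]⟩
  obtain ⟨k, rfl⟩ := (yon S).map_surjective k
  rw [← Functor.map_comp] at hk
  calc (EtOver.bcπ hf E).left.ker ≤ (incl _ I).left.ker :=
        (exists_lift_incl_iff _ _).1 ⟨k, (yon S).map_injective hk⟩
    _ = I := Scheme.IdealSheafData.ker_subschemeι I

/-- Closed subspaces with the same kernel ideals agree. -/
theorem exists_iso_of_idealOfRep_eq {X Z Z' : Sp S} (hX : IsAlgSpace X) {i : Z ⟶ X} {i' : Z' ⟶ X}
    (hi : RepWith @IsClosedImmersion i) (hi' : RepWith @IsClosedImmersion i')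
    (h : idealOfRep hi.1 = idealOfRep hi'.1) : ∃ e : Z ≅ Z', e.hom ≫ i' = i := by
  have := repWith_mono_closedImmersion hi
  have := repWith_mono_closedImmersion hi'
  obtain ⟨V, φ, hφ, hφs⟩ := hX.atlas
  obtain ⟨I, fI, sqI⟩ := exists_ideal hi φ
  obtain ⟨J, fJ, sqJ⟩ := exists_ideal hi' φ
  have hIJ : I = J := by
    refine Scheme.IdealSheafData.ext (funext fun W => ?_)
    have : IsAffine W.1.toScheme := W.2
    let U : Over S := Over.mk (W.1.ι ≫ V.hom)
    let k : U ⟶ V := Over.homMk W.1.ι rfl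
    have hk : RepWith @Etale ((yon S).map k) :=
      (repWith_yon_map_iff _ k).2 (inferInstanceAs (Etale W.1.ι))
    let E : EtOver X := EtOver.mk ((yon S).map k ≫ φ) (repWith_comp hk hφ)
    have hE : IsAffine E.obj.left.left := ‹IsAffine W.1.toScheme›
    obtain ⟨f₁, sq₁⟩ := exists_isPullback_comap hi sqI k
    obtain ⟨f₂, sq₂⟩ := exists_isPullback_comap hi' sqJ k
    have e : (I.comap W.1.ι).ideal ⟨⊤, isAffineOpen_top W.1.toScheme⟩ =
        (J.comap W.1.ι).ideal ⟨⊤, isAffineOpen_top W.1.toScheme⟩ := by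
      have := congrArg (fun K => IdealEt.ideal K E hE) h
      simp only [idealOfRep_ideal hi E hE _ f₁ sq₁, idealOfRep_ideal hi' E hE _ f₂ sq₂] at this
      exact this
    rw [Scheme.IdealSheafData.ideal_comap_of_isOpenImmersion,
      Scheme.IdealSheafData.ideal_comap_of_isOpenImmersion] at e
    have e' := Ideal.comap_injective_of_surjective _
      (ConcreteCategory.bijective_of_isIso (W.1.ι.appIso ⊤).inv).2 e
    have hW : (⟨W.1.ι ''ᵁ ⊤, (isAffineOpen_top W.1.toScheme).image_of_isOpenImmersion W.1.ι⟩ :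
        V.left.affineOpens) = W := Subtype.ext W.1.ι_image_top
    rw [← hW]
    exact e'
  subst hIJ
  have hchart := chart_of_isPullback hφ hφs sqI
  have := isLocallySurjective_of_etale fI hchart.1 hchart.2
  have hchart' := chart_of_isPullback hφ hφs sqJ
  have := isLocallySurjective_of_etale fJ hchart'.1 hchart'.2
  have hle : I ≤ (incl V I).left.ker := (Scheme.IdealSheafData.ker_subschemeι I).ge
  obtain ⟨k, hk⟩ := (exists_lift_iff_le_ker hi' sqJ sqI.w).2 hle
  obtain ⟨l, hl⟩ := (exists_lift_iff_le_ker hi sqI sqJ.w).2 hle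
  exact exists_iso_of_lifts k hk l hl

end

end Groth.AlgSpCartier
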