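import Groth.Prelude.Def_AlgSpDec
import Groth.Agent.AlgSp2.InfSmallExt
import Groth.Agent.AlgSp2.MonoPoint
import Groth.Agent.AlgSpBasic.Diag
import Groth.Agent.AlgSpBasic.LocPInst
import Groth.Agent.AlgSpBasic.Points
import Groth.Agent.DescentBase.UnivOpenField
import Groth.Agent.FlatMor2.NoethFibre

/-! Locally Noetherian fibres over different representatives of a point. -/

set_option autoImplicit false
set_option backward.isDefEq.respectTransparency.types false
universe u

open CategoryTheory CategoryTheory.Limits AlgebraicGeometry AlgSp Groth.AlgSpBasic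

namespace Groth.AlgSpCartier

variable {S : Scheme.{u}}

theorem mk_eq_ofPt {F : Sp S} (p : FieldPt F) :
    Points.mk p = Points.ofPt p.toHom (IsLocalRing.closedPoint p.K) := by
  symm
  refine (Points.ofPt_eq_map_ofScheme (T := p.pt) p.toHom (IsLocalRing.closedPoint p.K)).trans ?_
  have key := Points.ofScheme_apply_eq_mk p.pt (str := p.str) (𝟙 _) (Category.id_comp _)
  refine Eq.trans (congrArg (Points.map p.toHom) key) ?_
  refine Eq.trans (Points.map_mk _ _) (congrArg Points.mk ?_)
  obtain ⟨K, str, val⟩ := p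
  change (⟨K, str, _⟩ : FieldPt F) = ⟨K, str, val⟩
  congr 1
  refine Eq.trans ?_ ((J S).uliftYonedaEquiv.{u + 1}.apply_symm_apply val)
  exact ((J S).uliftYonedaEquiv_apply _).symm

theorem toHom_ofPt {F : Sp S} {V : Over S} (b : (yon S).obj V ⟶ F) (v : V.left) :
    (FieldPt.ofPt b v).toHom =
      (yon S).map (Over.homMk (V.left.fromSpecResidueField v) rfl : (FieldPt.ofPt b v).pt ⟶ V) ≫ b := by
  apply (J S).uliftYonedaEquiv.injective
  rw [FieldPt.uliftYonedaEquiv_toHom, GrothendieckTopology.uliftYonedaEquiv_comp]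
  rfl

theorem isLocNoethSp_of_repWith_lft {A B : Sp S} (hB : IsAlgSpace B) (hA : IsAlgSpace A) {h : A ⟶ B}
    (hh : RepWith @LocallyOfFiniteType h) (hN : IsLocNoethSp B) : IsLocNoethSp A := by
  obtain ⟨U, a, ha, has⟩ := hB.atlas
  have := Groth.AlgSp2.isLocallyNoetherian_of_etale hB hN ha
  obtain ⟨W, snd, fst, sq⟩ := hh.rep a
  have : LocallyOfFiniteType snd.left := hh.property a fst snd sq
  exact ⟨W, fst, repWith_of_isPullback sq.flip ha, repWith_of_isPullback sq.flip has,
    LocallyOfFiniteType.isLocallyNoetherian snd.left⟩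

theorem isLocNoethSp_of_repWith_flat_surjective {A B : Sp S} (hB : IsAlgSpace B) (hA : IsAlgSpace A) {h : A ⟶ B}
    (hh : RepWith (@Flat ⊓ @Surjective ⊓ @UniversallyOpen) h) (hN : IsLocNoethSp A) : IsLocNoethSp B := by
  obtain ⟨U, a, ha, has⟩ := hB.atlas
  obtain ⟨W, snd, fst, sq⟩ := hh.rep a
  obtain ⟨⟨h1, h2⟩, h3⟩ := hh.property a fst snd sq
  haveI : Flat snd.left := h1
  haveI : Surjective snd.left := h2
  haveI : UniversallyOpen snd.left := h3
  have := Groth.AlgSp2.isLocallyNoetherian_of_etale hA hN (repWith_of_isPullback sq.flip ha)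
  exact ⟨U, a, ha, has, Groth.FlatMor2.isLocallyNoetherian_of_flat_surjective snd.left⟩

theorem flat_of_field (K : Type u) [Field K] (L : Type u) [Field L]
    (f : Spec (CommRingCat.of L) ⟶ Spec (CommRingCat.of K)) : Flat f := by
  rw [← Spec.map_preimage f, Flat.SpecMap_iff]
  letI := (Spec.preimage f).hom.toAlgebra
  exact (inferInstance : Module.Flat K L)

theorem repWith_yon_field {T T' : Over S} (q : T' ⟶ T) (hf : Flat q.left) (hs : Surjective q.left)
    (ho : UniversallyOpen q.left) : RepWith (@Flat ⊓ @Surjective ⊓ @UniversallyOpen) ((yon S).map q) :=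
  repWith_inf_iff.2 ⟨repWith_inf_iff.2
    ⟨(repWith_yon_map_iff _ q).2 hf, (repWith_yon_map_iff _ q).2 hs⟩, (repWith_yon_map_iff _ q).2 ho⟩

theorem isLocNoethSp_fibre_descent {X Y Q : Sp S} (hX : IsAlgSpace X) (hY : IsAlgSpace Y) {f : X ⟶ Y}
    {T T' : Over S} {t : (yon S).obj T ⟶ Y} (q : T' ⟶ T)
    (hq : RepWith (@Flat ⊓ @Surjective ⊓ @UniversallyOpen) ((yon S).map q))
    {a : Q ⟶ X} {b : Q ⟶ (yon S).obj T} (sq : IsPullback a b f t)
    {t' : (yon S).obj T' ⟶ Y} (ht : (yon S).map q ≫ t = t')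
    (hN : IsLocNoethSp (pullback f t')) : IsLocNoethSp Q := by
  subst ht
  have hP := IsPullback.of_hasPullback f ((yon S).map q ≫ t)
  let l : pullback f ((yon S).map q ≫ t) ⟶ Q :=
    sq.lift (pullback.fst _ _) (pullback.snd _ _ ≫ (yon S).map q) (by rw [hP.w, Category.assoc])
  have sql : IsPullback (pullback.snd f ((yon S).map q ≫ t)) l ((yon S).map q) b := by
    refine IsPullback.of_bot ?_ (sq.lift_snd _ _ _).symm sq.flip
    rw [sq.lift_fst]; exact hP.flip
  exact isLocNoethSp_of_repWith_flat_surjective (isAlgSpace_of_isPullback sq hY.diag hX (IsAlgSpace.yon_obj T))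
    (isAlgSpace_of_isPullback hP hY.diag hX (IsAlgSpace.yon_obj T')) (repWith_of_isPullback sql hq) hN

theorem isLocNoethSp_fibre_of_lft {X Y : Sp S} (hX : IsAlgSpace X) (hY : IsAlgSpace Y) {f : X ⟶ Y}
    {T T' : Over S} {t : (yon S).obj T ⟶ Y} (e : T' ⟶ T) (he : LocallyOfFiniteType e.left)
    (hN : IsLocNoethSp (pullback f t)) : IsLocNoethSp (pullback f ((yon S).map e ≫ t)) := by
  have sq := IsPullback.of_hasPullback f t
  have hP := IsPullback.of_hasPullback f ((yon S).map e ≫ t)
  let l : pullback f ((yon S).map e ≫ t) ⟶ pullback f t :=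
    sq.lift (pullback.fst _ _) (pullback.snd _ _ ≫ (yon S).map e) (by rw [hP.w, Category.assoc])
  have sql : IsPullback (pullback.snd f ((yon S).map e ≫ t)) l ((yon S).map e) (pullback.snd f t) := by
    refine IsPullback.of_bot ?_ (sq.lift_snd _ _ _).symm sq.flip
    rw [sq.lift_fst]; exact hP.flip
  exact isLocNoethSp_of_repWith_lft (isAlgSpace_of_isPullback sq hY.diag hX (IsAlgSpace.yon_obj T))
    (isAlgSpace_of_isPullback hP hY.diag hX (IsAlgSpace.yon_obj T'))
    (repWith_of_isPullback sql ((repWith_yon_map_iff _ e).2 he)) hN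

theorem isLocNoethSp_fibre_of_etale_chart {X Y Q : Sp S} (hX : IsAlgSpace X) (hY : IsAlgSpace Y) {f : X ⟶ Y}
    (p : FieldPt Y) (hN : IsLocNoethSp (pullback f p.toHom)) {V : Over S} {b : (yon S).obj V ⟶ Y}
    (hb : RepWith @Etale b) (v : V.left) (hv : Points.mk p = Points.ofPt b v)
    {a : Q ⟶ X} {c : Q ⟶ (yon S).obj (FieldPt.ofPt b v).pt}
    (sq : IsPullback a c f (FieldPt.ofPt b v).toHom) : IsLocNoethSp Q := by
  obtain ⟨W, e, g, hW⟩ := exists_pullback_of_diag hY.diag p.toHom b
  haveI : Etale e.left := repWith_fst_of_isPullback hW.flip hb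
  obtain ⟨w, -, hw⟩ := (ofPt_eq_ofPt_iff hW _ v).1 ((mk_eq_ofPt p).symm.trans hv)
  haveI : LocallyQuasiFinite e.left := Groth.AlgSpBasic.locallyQuasiFinite_of_formallyUnramified e.left
  haveI : DiscreteTopology W.left := by
    rw [← isDiscrete_univ_iff]
    refine (e.left.isDiscrete_preimage_singleton (IsLocalRing.closedPoint p.K)).mono ?_
    exact fun x _ => Subsingleton.elim (α := Spec (CommRingCat.of p.K)) _ _
  haveI : IsClosedImmersion (W.left.fromSpecResidueField w) :=
    .of_isPreimmersion _ (isClosed_discrete _)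
  subst hw
  let T' : Over S := Over.mk (W.left.fromSpecResidueField w ≫ W.hom)
  let k : T' ⟶ W := Over.homMk (W.left.fromSpecResidueField w) rfl
  let q : T' ⟶ (FieldPt.ofPt b (g.left w)).pt := Over.homMk (Spec.map (g.left.residueFieldMap w)) (by
    show Spec.map (g.left.residueFieldMap w) ≫ V.left.fromSpecResidueField (g.left w) ≫ V.hom =
      W.left.fromSpecResidueField w ≫ W.hom
    rw [Scheme.Hom.SpecMap_residueFieldMap_fromSpecResidueField_assoc, Over.w g])
  have hq : RepWith (@Flat ⊓ @Surjective ⊓ @UniversallyOpen) ((yon S).map q) :=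
    repWith_yon_field q (flat_of_field _ _ q.left)
      ⟨fun y => ⟨IsLocalRing.closedPoint _, Subsingleton.elim (α := Spec (V.left.residueField (g.left w))) _ _⟩⟩
      (Groth.DescentBase.universallyOpen_of_field _ q.left)
  have h1 : (yon S).map q ≫ (FieldPt.ofPt b (g.left w)).toHom = (yon S).map (k ≫ e) ≫ p.toHom := by
    rw [toHom_ofPt, ← Category.assoc, ← Functor.map_comp, Functor.map_comp _ k e, Category.assoc, hW.w,
      ← Category.assoc, ← Functor.map_comp]
    congr 2
    exact Over.OverMorphism.ext (Scheme.Hom.SpecMap_residueFieldMap_fromSpecResidueField _ _)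
  refine isLocNoethSp_fibre_descent hX hY q hq sq h1 ?_
  exact isLocNoethSp_fibre_of_lft hX hY (k ≫ e)
    (inferInstanceAs (LocallyOfFiniteType (W.left.fromSpecResidueField w ≫ e.left))) hN

theorem isLocNoethSp_fibre_of_mono {X Y Q : Sp S} (hX : IsAlgSpace X) (hY : IsAlgSpace Y) {f : X ⟶ Y}
    (p p₀ : FieldPt Y) (hpp : Points.mk p = Points.mk p₀) [Mono p₀.toHom]
    (hN : IsLocNoethSp (pullback f p.toHom))
    {a : Q ⟶ X} {c : Q ⟶ (yon S).obj p₀.pt} (sq : IsPullback a c f p₀.toHom) : IsLocNoethSp Q := by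
  obtain ⟨W, e, g, hW⟩ := exists_pullback_of_diag hY.diag p.toHom p₀.toHom
  obtain ⟨w, -, -⟩ := (ofPt_eq_ofPt_iff hW _ (IsLocalRing.closedPoint p₀.K)).1
    ((mk_eq_ofPt p).symm.trans (hpp.trans (mk_eq_ofPt p₀)))
  haveI : Nonempty W.left := ⟨w⟩
  haveI : Mono e.left := mono_left_of_isPullback hW.flip
  haveI : IsIso ((Over.forget S).map e) := Groth.AlgSp2.isIso_of_mono_to_field (K := p.K) e.left
  haveI : IsIso e := isIso_of_reflects_iso e (Over.forget S)
  let q : p.pt ⟶ p₀.pt := CategoryTheory.inv e ≫ g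
  have hq : RepWith (@Flat ⊓ @Surjective ⊓ @UniversallyOpen) ((yon S).map q) :=
    repWith_yon_field q (flat_of_field _ _ q.left)
      ⟨fun y => ⟨IsLocalRing.closedPoint _, Subsingleton.elim (α := Spec (CommRingCat.of p₀.K)) _ _⟩⟩
      (Groth.DescentBase.universallyOpen_of_field _ q.left)
  refine isLocNoethSp_fibre_descent hX hY q hq sq ?_ hN
  have h1 : (yon S).map q ≫ p₀.toHom = p.toHom := by
    rw [Functor.map_comp, Category.assoc, ← hW.w, ← Category.assoc, ← Functor.map_comp, IsIso.inv_hom_id,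
      CategoryTheory.Functor.map_id]
    exact Category.id_comp _
  exact h1

end Groth.AlgSpCartier
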