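import Groth.Agent.KoszulLCI.Immersion
import Groth.Agent.KoszulLCI.SchemeBaseChange
import Groth.Agent.Syntomic.Descent
import Groth.Agent.Syntomic.Scheme
import Groth.Agent.AlgSpBasic.LocPInst
import Groth.Agent.AlgSp2.Locality
import Groth.Prelude.Def_AlgSpMor6
import Groth.Prelude.Def_AlgSpCov

/-! Local complete intersection morphisms of algebraic spaces. -/

set_option autoImplicit false
set_option backward.isDefEq.respectTransparency.types false
universe u

open CategoryTheory CategoryTheory.Limits AlgebraicGeometry AlgSp Groth.AlgSpBasic Groth.KoszulLCI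

namespace Groth.LciSp

theorem lci_iff {A B : Scheme.{u}} (h : A ⟶ B) : lci h ↔ MorLCI h := isKoszulAt_iff_morLCI h

/-- `MorLCI` may be tested on one flat family of jointly surjective finite compact pieces. -/
theorem morLCI_of_flat_family {A B : Scheme.{u}} (h : A ⟶ B) {ι : Type*} (R : ι → Scheme.{u}) (r : ∀ i, R i ⟶ B)
    [∀ i, Flat (r i)] (hP : ∀ i, MorLCI (pullback.snd h (r i)))
    (hcov : ∀ y : B, ∃ V : B.Opens, IsAffineOpen V ∧ y ∈ V ∧ ∃ (m : ℕ) (idx : Fin m → ι) (K : ∀ j, Set (R (idx j))),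
      (∀ j, IsCompact (K j)) ∧ (∀ j, K j ⊆ r (idx j) ⁻¹' (V : Set B)) ∧ ∀ z ∈ V, ∃ j, z ∈ r (idx j) '' K j) :
    MorLCI h := by
  choose V hV hyV m idx K hK hKV hKc using hcov
  refine IsZariskiLocalAtTarget.of_iSup_eq_top (P := MorLCI) V
    (top_unique fun y _ => TopologicalSpace.Opens.mem_iSup.2 ⟨y, hyV y⟩) fun y => ?_
  -- finitely many affine opens containing each compact piece
  have hfin : ∀ j, ∃ s : Finset {O : (R (idx y j)).Opens // IsAffineOpen O ∧ O ≤ r (idx y j) ⁻¹ᵁ V y},
      K y j ⊆ ⋃ O ∈ s, (O.1 : Set (R (idx y j))) := fun j => by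
    refine (hK y j).elim_finite_subcover (fun O : {O : (R (idx y j)).Opens // IsAffineOpen O ∧ O ≤ r (idx y j) ⁻¹ᵁ V y} =>
      (O.1 : Set (R (idx y j)))) (fun O => O.1.2) fun x hx => ?_
    obtain ⟨O, hO, hxO, hOle⟩ := exists_isAffineOpen_mem_and_subset (x := x) (U := r (idx y j) ⁻¹ᵁ V y) (hKV y j hx)
    exact Set.mem_iUnion.2 ⟨⟨O, hO, hOle⟩, hxO⟩
  choose s hs using hfin
  let J := Σ j : Fin (m y), ↥(s j)
  let W : J → Scheme.{u} := fun p => p.2.1.1.toScheme
  haveI : ∀ p : J, IsAffine (W p) := fun p => p.2.1.2.1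
  let c : ∀ p : J, W p ⟶ (V y).toScheme := fun p =>
    IsOpenImmersion.lift (V y).ι (p.2.1.1.ι ≫ r (idx y p.1)) (by
      rintro _ ⟨w, rfl⟩
      rw [Scheme.Opens.range_ι]
      exact p.2.1.2.2 w.2)
  have hc : ∀ p, c p ≫ (V y).ι = p.2.1.1.ι ≫ r (idx y p.1) := fun p => IsOpenImmersion.lift_fac _ _ _
  let d : ∐ W ⟶ (V y).toScheme := Sigma.desc c
  have hflat : ∀ p, Flat (c p) := fun p => by
    have hsq : IsPullback (c p) (𝟙 _) (V y).ι (c p ≫ (V y).ι) := IsPullback.of_vert_isIso_mono ⟨by simp⟩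
    exact MorphismProperty.of_isPullback hsq.flip (by rw [hc]; infer_instance)
  haveI : Flat d := IsZariskiLocalAtSource.sigmaDesc hflat
  haveI : Surjective d := ⟨fun z => by
    obtain ⟨j, x, hx, hxz⟩ := hKc y z.1 z.2
    obtain ⟨O, hO, hxO⟩ := Set.mem_iUnion₂.1 (hs j hx)
    refine ⟨Sigma.ι W ⟨j, O, hO⟩ ⟨x, hxO⟩, (V y).ι.isOpenEmbedding.injective ?_⟩
    refine Eq.trans ?_ hxz
    rw [← Scheme.Hom.comp_apply, ← Scheme.Hom.comp_apply, Sigma.ι_desc_assoc, hc ⟨j, O, hO⟩]
    rfl⟩
  haveI : IsAffine (V y).toScheme := hV y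
  have hd := (IsPullback.of_hasPullback (h ∣_ V y) d)
  have := Groth.KoszulLCI.morLCI_descends.{u}
  refine MorphismProperty.of_isPullback_of_descendsAlong (P := MorLCI) (Q := @Surjective ⊓ @Flat ⊓ @QuasiCompact)
    hd.flip ⟨⟨inferInstance, inferInstance⟩, inferInstance⟩ ?_
  rw [IsZariskiLocalAtTarget.iff_of_openCover (P := MorLCI) (sigmaOpenCover W)]
  intro p
  have h1 := ((IsPullback.of_hasPullback (pullback.snd (h ∣_ V y) d) (Sigma.ι W p)).paste_horiz hd).paste_horiz
    (isPullback_morphismRestrict h (V y)).flip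
  rw [show (Sigma.ι W p ≫ d) ≫ (V y).ι = p.2.1.1.ι ≫ r (idx y p.1) by rw [Sigma.ι_desc, hc]] at h1
  have h2 := (IsPullback.of_hasPullback (pullback.snd h (r (idx y p.1))) p.2.1.1.ι).paste_horiz
    (IsPullback.of_hasPullback h (r (idx y p.1)))
  change MorLCI (pullback.snd (pullback.snd (h ∣_ V y) d) (Sigma.ι W p))
  rw [← (h1.isoIsPullback_hom_snd _ _ h2), MorLCI.cancel_left_of_respectsIso]
  exact IsZariskiLocalAtTarget.of_isPullback (P := MorLCI) (IsPullback.of_hasPullback _ p.2.1.1.ι) (hP _)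

/-- `MorLCI` descends along etale surjections. -/
theorem morLCI_of_etale_cover {A B B' : Scheme.{u}} (h : A ⟶ B) (c : B' ⟶ B) [Etale c] [Surjective c]
    (hP : MorLCI (pullback.snd h c)) : MorLCI h := by
  refine morLCI_of_flat_family h (fun _ : PUnit.{1} => B') (fun _ => c) (fun _ => hP) fun y => ?_
  obtain ⟨y', rfl⟩ := c.surjective y
  obtain ⟨V₁, hV₁, hyV₁, -⟩ := exists_isAffineOpen_mem_and_subset (x := c y') (U := ⊤) trivial
  obtain ⟨O, hO, hyO, hOle⟩ := exists_isAffineOpen_mem_and_subset (x := y') (U := c ⁻¹ᵁ V₁) hyV₁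
  obtain ⟨s, hs, hys⟩ := hV₁.exists_basicOpen_le (V := ⟨c '' O, c.isOpenMap _ O.2⟩) ⟨c y', y', hyO, rfl⟩ hyV₁
  refine ⟨B.basicOpen s, hV₁.basicOpen s, hys, 1, fun _ => PUnit.unit,
    fun _ => (B'.basicOpen ((c.appLE V₁ O hOle).hom s) : Set B'), fun _ => (hO.basicOpen _).isCompact, ?_, ?_⟩
  · intro _ x hx
    rw [Scheme.basicOpen_appLE] at hx
    exact hx.2
  · intro z hz
    obtain ⟨x, hx, rfl⟩ := hs hz
    refine ⟨0, x, ?_, rfl⟩
    rw [Scheme.basicOpen_appLE]
    exact ⟨hx, hz⟩

theorem morLCI_of_etale_source {A' A B : Scheme.{u}} (χ : A' ⟶ A) [Etale χ] [Surjective χ] (h : A ⟶ B)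
    (hP : MorLCI (χ ≫ h)) : MorLCI h :=
  Groth.Syntomic.morLCI_of_comp_syntomic χ h (Groth.Syntomic.isSyntomicMor_of_smooth χ) hP

theorem morLCI_etale_comp {A' A B : Scheme.{u}} (χ : A' ⟶ A) [Etale χ] (h : A ⟶ B) (hP : MorLCI h) :
    MorLCI (χ ≫ h) :=
  MorphismProperty.comp_mem _ _ _ (morLCI_of_smooth χ) hP

variable {S : Scheme.{u}}

/-- A scheme etale over an etale sheaf over `X`. -/
theorem repWith_etale_comp {U X : Sp S} {T : Over S} (hU : IsAlgSpace U) (hX : IsAlgSpace X)
    {t : (yon S).obj T ⟶ U} (ht : RepWith @Etale t) {e : U ⟶ X} (he : IsEtaleMor e) :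
    RepWith @Etale (t ≫ e) :=
  repWith_of_locP hX (representable_of_diag hX.diag _)
    (locP_comp (IsAlgSpace.yon_obj T) hU hX (locP_of_repWith ht) (locP_of_isEtaleMor he))

theorem isRegImmMor_koszul_of_lci {X Y P U : Sp S} (hX : IsAlgSpace X) (hY : IsAlgSpace Y) (hP : IsAlgSpace P)
    (hU : IsAlgSpace U) {f : X ⟶ Y} {g : P ⟶ Y} {e : U ⟶ X} {i : U ⟶ P} (hc : i ≫ g = e ≫ f)
    (hf : IsLCIMor f) (hg : LocP @Smooth g) (he : IsEtaleMor e) (hi : RepWith @IsImmersion i) :
    IsRegImmMor RegImm.Kind.koszul i := by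
  refine ⟨hi.1, fun V T b fst snd hb sq => ?_⟩
  haveI : IsImmersion snd.left := hi.property b fst snd sq
  obtain ⟨W, c, hc', hcs⟩ := hY.atlas
  obtain ⟨R, r, w, hR⟩ := exists_pullback_of_diag hY.diag (b ≫ g) c
  haveI : Etale r.left := repWith_fst_of_isPullback hR.flip hc'
  haveI : Surjective r.left := repWith_fst_of_isPullback hR.flip hcs
  have hRP : RepWith @Etale ((yon S).map r ≫ b) :=
    repWith_comp ((repWith_yon_map_iff _ r).2 (inferInstance : Etale r.left)) hb
  haveI : Smooth w.left := hg _ c w hRP hc' (by rw [Category.assoc]; exact hR.w)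
  obtain ⟨M, m, mR, hM⟩ := exists_pullback_of_diag (IsAlgSpace.yon_obj V).diag ((yon S).map snd) ((yon S).map r)
  have hsch := isPullback_left (isPullback_of_yon hM)
  haveI : Etale m.left := MorphismProperty.of_isPullback hsch.flip (inferInstanceAs (Etale r.left))
  have hMX : RepWith @Etale (((yon S).map m ≫ fst) ≫ e) :=
    repWith_etale_comp hU hX (repWith_comp ((repWith_yon_map_iff _ m).2 (inferInstance : Etale m.left))
      (repWith_of_isPullback sq.flip hb)) he
  have h1 : MorLCI (mR ≫ w).left := (lci_iff _).1 (hf _ c (mR ≫ w) hMX hc' (by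
    rw [Category.assoc, Category.assoc, ← hc, ← Category.assoc fst i g, sq.w, Category.assoc,
      ← Category.assoc ((yon S).map m), hM.w, Category.assoc, hR.w, ← Category.assoc, ← Functor.map_comp]))
  have h2 : MorLCI mR.left := morLCI_of_comp_smooth mR.left w.left h1
  refine isRegularImmersion_of_morLCI snd.left (morLCI_of_etale_cover snd.left r.left ?_)
  rw [← hsch.isoPullback_hom_snd, MorLCI.cancel_left_of_respectsIso] at h2
  exact h2

theorem isLCIMor_of_comp_smooth {X Y Z : Sp S} (hZ : IsAlgSpace Z)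
    {f : X ⟶ Y} {p : X ⟶ Z} {q : Y ⟶ Z} (hc : f ≫ q = p) (hq : LocP @Smooth q) (hp : IsLCIMor p) :
    IsLCIMor f := by
  intro U V a b h ha hb comm
  obtain ⟨W, c, hc', hcs⟩ := hZ.atlas
  obtain ⟨R, r, w, hR⟩ := exists_pullback_of_diag hZ.diag (b ≫ q) c
  haveI : Etale r.left := repWith_fst_of_isPullback hR.flip hc'
  haveI : Surjective r.left := repWith_fst_of_isPullback hR.flip hcs
  haveI : Smooth w.left := hq _ c w (repWith_comp ((repWith_yon_map_iff _ r).2 (inferInstance : Etale r.left)) hb) hc'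
    (by rw [Category.assoc]; exact hR.w)
  obtain ⟨M, m, mR, hM⟩ := exists_pullback_of_diag (IsAlgSpace.yon_obj V).diag ((yon S).map h) ((yon S).map r)
  have hsch := isPullback_left (isPullback_of_yon hM)
  haveI : Etale m.left := MorphismProperty.of_isPullback hsch.flip (inferInstanceAs (Etale r.left))
  have h1 : MorLCI (mR ≫ w).left := (lci_iff _).1 (hp _ c (mR ≫ w)
    (repWith_comp ((repWith_yon_map_iff _ m).2 (inferInstance : Etale m.left)) ha) hc' (by
      rw [Category.assoc, ← hc, ← Category.assoc a f q, comm, Category.assoc, ← Category.assoc ((yon S).map m),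
        hM.w, Category.assoc, hR.w, ← Category.assoc, ← Functor.map_comp]))
  have h2 : MorLCI mR.left := morLCI_of_comp_smooth mR.left w.left h1
  refine (lci_iff _).2 (morLCI_of_etale_cover h.left r.left ?_)
  rw [← hsch.isoPullback_hom_snd, MorLCI.cancel_left_of_respectsIso] at h2
  exact h2

theorem isLocalOnBase_fpqc_isLCIMor : IsLocalOnBase (IsFpqcCover (S := S)) IsLCIMor := by
  intro ι Y Yi g hY hYi hg X f hX Xi p q hXi hsq
  constructor
  · intro hf i U' V' a' b' h ha hb comm
    obtain ⟨W, φ, hφ, hφs⟩ := hY.atlas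
    obtain ⟨R, r, w, hR⟩ := exists_pullback_of_diag hY.diag (b' ≫ g i) φ
    haveI : Etale r.left := repWith_fst_of_isPullback hR.flip hφ
    haveI : Surjective r.left := repWith_fst_of_isPullback hR.flip hφs
    have hRY : RepWith @Etale ((yon S).map r ≫ b') :=
      repWith_comp ((repWith_yon_map_iff _ r).2 (inferInstance : Etale r.left)) hb
    haveI : Flat w.left := hg.1 i _ φ w hRY hφ (by rw [Category.assoc]; exact hR.w)
    -- charts of `X ×_Y W` and of `X ×_Y R`
    obtain ⟨Up, π, hπ, hπs⟩ := hX.atlas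
    obtain ⟨A, aU, α, hA⟩ := exists_pullback_of_diag hY.diag (π ≫ f) φ
    have hAX : RepWith @Etale ((yon S).map aU ≫ π) := repWith_comp (repWith_of_isPullback hA.flip hφ) hπ
    have hα : MorLCI α.left := (lci_iff _).1 (hf _ φ α hAX hφ (by rw [Category.assoc]; exact hA.w))
    obtain ⟨L, lU, lR, hL⟩ := exists_pullback_of_diag hY.diag (π ≫ f) ((yon S).map w ≫ φ)
    obtain ⟨lA, hlA⟩ := (yon S).map_surjective (hA.lift ((yon S).map lU) ((yon S).map lR ≫ (yon S).map w)
      (by rw [hL.w, Category.assoc]))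
    have sL : IsPullback ((yon S).map lA) ((yon S).map lR) ((yon S).map α) ((yon S).map w) :=
      IsPullback.of_right (by rw [hlA, hA.lift_fst]; exact hL) (by rw [hlA, hA.lift_snd]) hA
    have hlR : MorLCI lR.left := morLCI_of_isPullback_flat (isPullback_left (isPullback_of_yon sL)) hα
    -- the space `Q = X ×_Y R`
    have sqQ0 := IsPullback.of_hasPullback (p i) ((yon S).map r ≫ b')
    have hQ := isAlgSpace_of_isPullback sqQ0 (hYi i).diag (hXi i) (IsAlgSpace.yon_obj R)
    have sqQ : IsPullback (pullback.fst (p i) ((yon S).map r ≫ b') ≫ q i) (pullback.snd (p i) ((yon S).map r ≫ b'))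
        f ((yon S).map w ≫ φ) := by
      rw [← hR.w, ← Category.assoc]
      exact sqQ0.paste_horiz (hsq i)
    let σL : (yon S).obj L ⟶ pullback (p i) ((yon S).map r ≫ b') :=
      sqQ.lift ((yon S).map lU ≫ π) ((yon S).map lR) (by rw [Category.assoc]; exact hL.w)
    have sσ : IsPullback ((yon S).map lU) σL π (pullback.fst (p i) ((yon S).map r ≫ b') ≫ q i) := by
      refine IsPullback.of_bot ?_ (sqQ.lift_fst _ _ _).symm sqQ
      rw [sqQ.lift_snd]; exact hL
    have hσL : RepWith @Etale σL := repWith_of_isPullback sσ hπ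
    have hσLs : RepWith @Surjective σL := repWith_of_isPullback sσ hπs
    -- `M = U' ×_{V'} R`
    obtain ⟨M, m, mR, hM⟩ := exists_pullback_of_diag (IsAlgSpace.yon_obj V').diag ((yon S).map h) ((yon S).map r)
    have hsch := isPullback_left (isPullback_of_yon hM)
    haveI : Etale m.left := MorphismProperty.of_isPullback hsch.flip (inferInstanceAs (Etale r.left))
    obtain ⟨N, n, nR, hN⟩ := exists_pullback_of_diag (hYi i).diag (a' ≫ p i) ((yon S).map r ≫ b')
    let σN : (yon S).obj N ⟶ pullback (p i) ((yon S).map r ≫ b') :=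
      sqQ0.lift ((yon S).map n ≫ a') ((yon S).map nR) (by rw [Category.assoc]; exact hN.w)
    have sN : IsPullback ((yon S).map n) σN a' (pullback.fst (p i) ((yon S).map r ≫ b')) := by
      refine IsPullback.of_bot ?_ (sqQ0.lift_fst _ _ _).symm sqQ0
      rw [sqQ0.lift_snd]; exact hN
    have hcompM : ((yon S).map m) ≫ a' ≫ p i = (yon S).map mR ≫ (yon S).map r ≫ b' := by
      rw [comm, ← Category.assoc, hM.w, Category.assoc]
    obtain ⟨l, hl⟩ := (yon S).map_surjective (hN.lift ((yon S).map m) ((yon S).map mR) hcompM)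
    have hnE : RepWith @Etale ((yon S).map n ≫ a') :=
      repWith_comp (repWith_of_isPullback hN.flip hRY) ha
    haveI : Etale l.left := etale_of_repWith_comp l hnE (by
      rw [← Category.assoc, hl, hN.lift_fst]
      exact repWith_comp ((repWith_yon_map_iff _ m).2 (inferInstance : Etale m.left)) ha)
    let σM : (yon S).obj M ⟶ pullback (p i) ((yon S).map r ≫ b') := (yon S).map l ≫ σN
    have hσM : RepWith @Etale σM :=
      repWith_comp ((repWith_yon_map_iff _ l).2 (inferInstance : Etale l.left)) (repWith_of_isPullback sN ha)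
    obtain ⟨K, kM, kL, hK⟩ := exists_pullback_of_diag hQ.diag σM σL
    haveI : Etale kM.left := repWith_fst_of_isPullback hK.flip hσL
    haveI : Surjective kM.left := repWith_fst_of_isPullback hK.flip hσLs
    haveI : Etale kL.left := repWith_fst_of_isPullback hK hσM
    have hkk : kM ≫ mR = kL ≫ lR := (yon S).map_injective (by
      have e := congrArg (· ≫ pullback.snd (p i) ((yon S).map r ≫ b')) hK.w
      simp only [σM, σN, σL, Category.assoc, sqQ.lift_snd, sqQ0.lift_snd, hl ▸ hN.lift_snd _ _ hcompM] at e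
      rw [Functor.map_comp, Functor.map_comp]
      exact e)
    have h1 : MorLCI mR.left := morLCI_of_etale_source kM.left mR.left (by
      rw [← Over.comp_left, hkk, Over.comp_left]
      exact morLCI_etale_comp kL.left lR.left hlR)
    refine (lci_iff _).2 (morLCI_of_etale_cover h.left r.left ?_)
    rw [← hsch.isoPullback_hom_snd, MorLCI.cancel_left_of_respectsIso] at h1
    exact h1
  · intro hp U V a b h ha hb comm
    choose Vi ψ hψ hψs using fun i => (hYi i).atlas
    choose R r r' hR using fun i => exists_pullback_of_diag hY.diag b (ψ i ≫ g i)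
    have hre : ∀ i, Etale (r' i).left := fun i => repWith_fst_of_isPullback (hR i) hb
    haveI : ∀ i, Flat (r i).left := fun i => by
      have h1 : LocP @Flat (ψ i ≫ g i) := locP_comp (IsAlgSpace.yon_obj _) (hYi i) hY
        (locP_of_repWith (repWith_mono (fun _ _ k (_ : Etale k) => (inferInstance : Flat k)) (hψ i))) (hg.1 i)
      exact locP_yon_map (locP_of_isPullback (IsAlgSpace.yon_obj _) hY (IsAlgSpace.yon_obj _) (hR i).flip h1)
    refine (lci_iff _).2 (morLCI_of_flat_family h.left (fun i => (R i).left) (fun i => (r i).left) (fun i => ?_)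
      fun y => ?_)
    · obtain ⟨M, m, mR, hM⟩ := exists_pullback_of_diag (IsAlgSpace.yon_obj V).diag ((yon S).map h) ((yon S).map (r i))
      have hsch := isPullback_left (isPullback_of_yon hM)
      have hout : IsPullback ((yon S).map m) ((yon S).map mR ≫ (yon S).map (r' i)) (a ≫ f) (ψ i ≫ g i) := by
        rw [comm]
        exact (hM.flip.paste_horiz (hR i).flip).flip
      let P' := pullback (p i) (ψ i)
      have sqP0 := IsPullback.of_hasPullback (p i) (ψ i)
      have sqP := sqP0.paste_horiz (hsq i)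
      let σ : (yon S).obj M ⟶ P' := sqP.lift ((yon S).map m ≫ a) ((yon S).map mR ≫ (yon S).map (r' i))
        (by rw [Category.assoc]; exact hout.w)
      have sσ : IsPullback ((yon S).map m) σ a (pullback.fst (p i) (ψ i) ≫ q i) := by
        refine IsPullback.of_bot ?_ (sqP.lift_fst _ _ _).symm sqP
        rw [sqP.lift_snd]; exact hout
      have ht : RepWith @Etale (σ ≫ pullback.fst (p i) (ψ i)) :=
        repWith_comp (repWith_of_isPullback sσ ha) (repWith_of_isPullback sqP0.flip (hψ i))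
      have h1 : MorLCI (mR ≫ r' i).left := (lci_iff _).1 (hp i _ (ψ i) (mR ≫ r' i) ht (hψ i) (by
        rw [Category.assoc, sqP0.w, ← Category.assoc, sqP.lift_snd, Functor.map_comp]))
      haveI := hre i
      have h2 : MorLCI mR.left := morLCI_of_comp_smooth mR.left (r' i).left h1
      rw [← hsch.isoPullback_hom_snd, MorLCI.cancel_left_of_respectsIso] at h2
      exact h2
    · obtain ⟨V0, hV0, hyV0, -⟩ := exists_isAffineOpen_mem_and_subset (X := V.left) (x := y) (U := ⊤) trivial
      let Z : Over S := Over.mk (V0.ι ≫ V.hom)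
      let z : Z ⟶ V := Over.homMk V0.ι rfl
      obtain ⟨m, W, c, hW, -, hs, hl⟩ := hg.2 Z hV0 ((yon S).map z ≫ b)
      choose idx l hl using hl
      choose N n₁ n₂ hN using fun j => exists_pullback_of_diag (hYi (idx j)).diag (l j) (ψ (idx j))
      have hex : ∀ j, ∃ k : N j ⟶ R (idx j), k ≫ r (idx j) = n₁ j ≫ c j ≫ z := fun j => by
        have e : (yon S).map (n₁ j ≫ c j ≫ z) ≫ b = (yon S).map (n₂ j) ≫ ψ (idx j) ≫ g (idx j) := by
          rw [← Category.assoc ((yon S).map (n₂ j)), ← (hN j).w, Category.assoc, hl j]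
          simp only [Functor.map_comp, Category.assoc]
        obtain ⟨k, hk⟩ := (yon S).map_surjective ((hR (idx j)).lift _ _ e)
        exact ⟨k, (yon S).map_injective (by rw [Functor.map_comp, hk, (hR (idx j)).lift_fst])⟩
      choose k hk using hex
      haveI : ∀ j, Etale (n₁ j).left := fun j => repWith_fst_of_isPullback (hN j).flip (hψ _)
      haveI : ∀ j, Surjective (n₁ j).left := fun j => repWith_fst_of_isPullback (hN j).flip (hψs _)
      have hK0 : ∀ j, ∃ K0 : Set (N j).left, IsCompact K0 ∧ (n₁ j).left '' K0 = Set.univ := fun j => by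
        haveI := hW j
        choose x hx using (n₁ j).left.surjective
        choose O hO hxO using fun w => exists_isAffineOpen_mem_and_subset (X := (N j).left) (x := x w) (U := ⊤) trivial
        obtain ⟨t, ht⟩ := (isCompact_univ : IsCompact (Set.univ : Set (W j).left)).elim_finite_subcover
          (fun w => (n₁ j).left '' (O w : Set (N j).left)) (fun w => (n₁ j).left.isOpenMap _ (O w).2)
          (fun w _ => Set.mem_iUnion.2 ⟨w, x w, (hxO w).1, hx w⟩)
        refine ⟨⋃ w ∈ t, (O w : Set (N j).left), t.isCompact_biUnion fun w _ => (hO w).isCompact, ?_⟩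
        rw [Set.image_iUnion₂]
        exact top_unique ht
      choose K0 hK0 hK0s using hK0
      refine ⟨V0, hV0, hyV0, m, idx, fun j => (k j).left '' K0 j, fun j => (hK0 j).image (k j).left.continuous, ?_, ?_⟩
      · rintro j _ ⟨x, -, rfl⟩
        show (r (idx j)).left ((k j).left x) ∈ V0
        rw [← Scheme.Hom.comp_apply, ← Over.comp_left, hk]
        exact ((c j).left ((n₁ j).left x)).2
      · intro x hx
        obtain ⟨j, w, hw⟩ := hs ⟨x, hx⟩
        obtain ⟨n, hn, rfl⟩ : w ∈ (n₁ j).left '' K0 j := by rw [hK0s j]; trivial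
        refine ⟨j, _, ⟨n, hn, rfl⟩, ?_⟩
        rw [← Scheme.Hom.comp_apply, ← Over.comp_left, hk]
        exact congrArg Subtype.val hw

end Groth.LciSp
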