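import Groth.Agent.KoszulLCI.FibrewiseScheme
import Groth.Agent.AlgSpCartier.LciSp
import Groth.Agent.AlgSp3.HasAtMor
import Groth.Agent.AlgSp2.ChartBaseChangeTower
import Groth.Agent.AlgSpBasic.OpenSub

/-!
# The Koszul locus of a morphism of algebraic spaces
-/

set_option autoImplicit false
set_option backward.isDefEq.respectTransparency.types false
set_option linter.style.haveILetI false
universe u

open CategoryTheory CategoryTheory.Limits AlgebraicGeometry AlgSp Groth.AlgSpBasic Groth.KoszulLCI Groth.LciSp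

namespace Groth.AlgSpCartier.LciLocus

/-- Near the point the morphism is a local complete intersection. -/
def NearPt {U V : Scheme.{u}} (h : U ⟶ V) (x : U) : Prop :=
  ∃ O : U.Opens, x ∈ O ∧ MorLCI (O.ι ≫ h)

theorem nearPt_iff {U V : Scheme.{u}} (h : U ⟶ V) (x : U) : NearPt h x ↔ InLCILocus h x := by
  constructor
  · rintro ⟨O, hx, hO⟩
    obtain ⟨W, hW, hxW, -⟩ := exists_isAffineOpen_mem_and_subset (show h x ∈ (⊤ : V.Opens) from trivial)
    obtain ⟨U₀, hU₀, hxU, hle⟩ := exists_isAffineOpen_mem_and_subset (show x ∈ O ⊓ h ⁻¹ᵁ W from ⟨hx, hxW⟩)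
    refine ⟨U₀, W, hU₀, hW, fun y hy => (hle hy).2, hxU, ?_⟩
    rw [← morLCI_ι_comp_iff h hU₀ hW (fun y hy => (hle hy).2),
      ← Scheme.homOfLE_ι U (show U₀ ≤ O from fun y hy => (hle hy).1), Category.assoc]
    exact MorphismProperty.comp_mem _ _ _ (morLCI_of_smooth _) hO
  · rintro ⟨U₀, W, hU₀, hW, hUW, hx, hl⟩
    exact ⟨U₀, hx, (morLCI_ι_comp_iff h hU₀ hW hUW).2 hl⟩

theorem morLCI_of_nearPt {U V : Scheme.{u}} (h : U ⟶ V) (H : ∀ x, NearPt h x) : MorLCI h := by
  choose O hxO hO using H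
  exact (IsZariskiLocalAtSource.iff_of_openCover (P := MorLCI) (U.openCoverOfIsOpenCover O
    (TopologicalSpace.IsOpenCover.mk (top_le_iff.1 fun x _ => TopologicalSpace.Opens.mem_iSup.2 ⟨x, hxO x⟩)))).2 hO

theorem etMor_nearPt : Groth.AlgSp3.EtMorInvariant.{u} fun U V h x => NearPt h x where
  precomp {U' U V} χ _ h x := by
    refine propext ⟨?_, ?_⟩
    · rintro ⟨O, hx, hO⟩
      let O₂ : U.Opens := ⟨χ '' (O : Set U'), χ.isOpenMap _ O.2⟩
      have hle : O ≤ χ ⁻¹ᵁ O₂ := fun y hy => ⟨y, hy, rfl⟩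
      let r := χ.resLE O₂ O hle
      have : Etale r := inferInstance
      have : Surjective r := ⟨fun ⟨y, hy⟩ => by
        obtain ⟨z, hz, rfl⟩ := hy
        refine ⟨⟨z, hz⟩, Subtype.ext ?_⟩
        exact congr(($(χ.resLE_comp_ι hle)).base ⟨z, hz⟩)⟩
      refine ⟨O₂, ⟨x, hx, rfl⟩, morLCI_of_etale_source r _ ?_⟩
      rw [← Category.assoc, χ.resLE_comp_ι hle, Category.assoc]
      exact hO
    · rintro ⟨O, hx, hO⟩
      refine ⟨χ ⁻¹ᵁ O, hx, ?_⟩
      rw [← Category.assoc, ← morphismRestrict_ι, Category.assoc]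
      exact morLCI_etale_comp (χ ∣_ O) _ hO
  postcomp {U V V'} h e _ x := by
    refine propext (exists_congr fun O => and_congr_right fun _ => ?_)
    rw [← Category.assoc]
    exact ⟨morLCI_of_comp_smooth _ _, fun h' => MorphismProperty.comp_mem _ _ _ h' (morLCI_of_smooth _)⟩

variable {S : Scheme.{u}} {X Y : Sp S}

/-- The Koszul locus is read on any chart diagram. -/
theorem locPNear_iff_of_chart (hX : IsAlgSpace X) (hY : IsAlgSpace Y) {f : X ⟶ Y} {U V : Over S}
    {a : (yon S).obj U ⟶ X} {b : (yon S).obj V ⟶ Y} {h : U ⟶ V} (ha : RepWith @Etale a)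
    (hb : RepWith @Etale b) (comm : a ≫ f = (yon S).map h ≫ b) (u : U.left) :
    LocPNear lci f (Points.ofPt a u) ↔ NearPt h.left u := by
  constructor
  · rintro ⟨W, j, hj, ⟨w, hw⟩, hP⟩
    obtain ⟨O, o, q, sq⟩ := hj.rep a
    have : IsOpenImmersion o.left := hj.property a q o sq
    obtain ⟨z, -, hz⟩ := (map_eq_ofPt_iff sq w u).1 hw
    have hlci : MorLCI (o.left ≫ h.left) := (lci_iff _).1 (hP q b (o ≫ h)
      (repWith_of_isPullback sq.flip ha) hb (by rw [← Category.assoc, sq.w, Category.assoc, comm, Functor.map_comp, Category.assoc]))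
    refine ⟨o.left.opensRange, ⟨z, hz⟩, ?_⟩
    rw [← o.left.isoOpensRange_inv_comp, Category.assoc]
    exact MorphismProperty.comp_mem _ _ _ (morLCI_of_smooth _) hlci
  · intro hu
    let L : Set U.left := {v | NearPt h.left v}
    have hL : IsOpen L := by
      rw [isOpen_iff_forall_mem_open]
      rintro v ⟨O, hv, hO⟩
      exact ⟨O, fun v' hv' => ⟨O, hv', hO⟩, O.2, hv⟩
    let D : Set (Points X) := Points.ofPt a '' L
    have hD : IsOpen D := isOpenMap_ofPt_of_etale ha _ hL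
    have hr : Set.range (Points.map (openSubι X D)) = D := range_map_openSubι
    refine ⟨openSub X D, openSubι X D, repWith_openSubι hD,
      hr.symm ▸ ⟨u, hu, rfl⟩, fun U' V' a' b' h' ha' hb' comm' => (lci_iff _).2 (morLCI_of_nearPt _ fun u' => ?_)⟩
    have hmem : Points.ofPt (a' ≫ openSubι X D) u' ∈ D :=
      (Set.ext_iff.1 hr _).1 ⟨Points.ofPt a' u', Points.map_ofPt _ _ _⟩
    obtain ⟨v, hv, hvu⟩ := hmem
    refine (iff_of_eq (Groth.AlgSp3.inv_eq_of_charts etMor_nearPt hX.diag hY.diag ha hb comm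
      (repWith_comp ha' ⟨(repWith_openSubι hD).rep, fun {_ _} g fst snd sq => by
        have : IsOpenImmersion snd.left := (repWith_openSubι hD).property g fst snd sq
        exact (inferInstance : Etale snd.left)⟩)
      hb' (by rw [Category.assoc]; exact comm') hvu)).1 hv

/-- The Koszul locus of a map of flat families commutes with base change. -/
theorem locPNear_baseChange {Z X' Y' Z' : Sp S} (hX : IsAlgSpace X) (hY : IsAlgSpace Y) (hZ : IsAlgSpace Z)
    (hX' : IsAlgSpace X') (hY' : IsAlgSpace Y') (hZ' : IsAlgSpace Z') {f : X ⟶ Y} {q : Y ⟶ Z} {g : Z' ⟶ Z}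
    {gY : Y' ⟶ Y} {q' : Y' ⟶ Z'} {gX : X' ⟶ X} {f' : X' ⟶ Y'}
    (hp1 : LocP @Flat (f ≫ q)) (hp2 : LocP @LocallyOfFinitePresentation (f ≫ q))
    (hq1 : LocP @Flat q) (hq2 : LocP @LocallyOfFinitePresentation q)
    (sY : IsPullback gY q' q g) (sXY : IsPullback gX f' f gY) (x' : Points X') :
    LocPNear lci f' x' ↔ LocPNear lci f (Points.map gX x') := by
  obtain ⟨U, V, W, a, b, c, h, k, u, ha, hb, hc, e1, e2, e3, hu, -⟩ :=
    Groth.AlgSp3.exists_chart_comp hX hY hZ f q (Points.map gX x')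
  have sM := IsPullback.of_hasPullback c g
  have hM : IsAlgSpace (pullback c g) := isAlgSpace_of_isPullback sM hZ.diag (IsAlgSpace.yon_obj W) hZ'
  obtain ⟨T, φ, hφ, hφs⟩ := hM.atlas
  obtain ⟨t, ht⟩ := (yon S).map_surjective (φ ≫ pullback.fst c g)
  have hφ' : IsEtaleMor φ := isEtaleMor_of_locP hM (locP_of_repWith hφ)
  obtain ⟨BV, v₁, v₂, hBV⟩ := Groth.AlgSp2.exists_over_pullback k t
  obtain ⟨BU, u₁, u₂, hBU⟩ := Groth.AlgSp2.exists_over_pullback (h ≫ k) t
  have sX : IsPullback gX (f' ≫ q') (f ≫ q) g := sXY.paste_vert sY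
  obtain ⟨lU, hlU, hlU₁, hlU₂, hlUs⟩ := Groth.AlgSp2.exists_baseChange_chart hX hZ hZ' sX ha e3 hφ' ht hBU
  obtain ⟨lV, hlV, hlV₁, hlV₂, -⟩ := Groth.AlgSp2.exists_baseChange_chart hY hZ hZ' sY hb e2 hφ' ht hBV
  let m : BU ⟶ BV := hBV.lift (u₁ ≫ h) u₂ (by rw [Category.assoc]; exact hBU.w)
  have hm₁ : m ≫ v₁ = u₁ ≫ h := hBV.lift_fst _ _ _
  have hm₂ : m ≫ v₂ = u₂ := hBV.lift_snd _ _ _
  have hcomm : lU ≫ f' = (yon S).map m ≫ lV := by
    refine sY.hom_ext ?_ ?_
    · rw [Category.assoc, ← sXY.w, ← Category.assoc, hlU₁, Category.assoc, e1, Category.assoc, hlV₁,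
        ← Functor.map_comp_assoc, ← Functor.map_comp_assoc, hm₁]
    · rw [Category.assoc, hlU₂, Category.assoc, hlV₂, ← Functor.map_comp_assoc, hm₂]
  obtain ⟨z, hz, hzu⟩ := hlUs (fun y => by
    obtain ⟨s, hs⟩ := surjective_ofPt_of_repWith hφs y
    exact ⟨Points.schemeHomeo T s, by rw [← hs, ofPt_eq_map]; rfl⟩) x' u hu.symm
  rw [← hu, ← hz, locPNear_iff_of_chart hX' hY' hlU hlV hcomm z, locPNear_iff_of_chart hX hY ha hb e1 u,
    nearPt_iff, nearPt_iff, ← hzu]
  have : Flat k.left := hq1 b c k hb hc e2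
  have : LocallyOfFinitePresentation k.left := hq2 b c k hb hc e2
  have : Flat (h.left ≫ k.left) := hp1 a c (h ≫ k) ha hc e3
  have : LocallyOfFinitePresentation (h.left ≫ k.left) := hp2 a c (h ≫ k) ha hc e3
  have hX₂ : IsPullback u₁.left (m.left ≫ v₂.left) (h.left ≫ k.left) t.left := by
    have := hBU.map (Over.forget S)
    rw [← hm₂] at this
    exact this
  exact inLCILocus_baseChange h.left k.left t.left v₁.left v₂.left u₁.left m.left
    (hBV.map (Over.forget S)) hX₂ (congrArg CommaMorphism.left hm₁.symm) z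

end Groth.AlgSpCartier.LciLocus
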