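import Groth.Agent.AlgSpCartier.Basic
import Groth.Agent.AlgSpBasic.Points
import Groth.Prelude.Def_AlgSpModX

/-! Charts of a closed subspace: restriction, and the kernel ideal `idealOfRep` on affine charts. -/

set_option autoImplicit false
set_option backward.isDefEq.respectTransparency.types false
universe u

open CategoryTheory CategoryTheory.Limits AlgebraicGeometry Opposite AlgSp

namespace Groth.AlgSpCartier

variable {S : Scheme.{u}}

/-- The chart of a closed subspace restricted along a morphism of test schemes. -/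
theorem exists_isPullback_comap {X D : Sp S} {i : D ⟶ X} (hi : RepWith @IsClosedImmersion i) {U W : Over S}
    {a : (yon S).obj U ⟶ X} {I : U.left.IdealSheafData} {fI : (yon S).obj (subOver U I) ⟶ D}
    (sqI : IsPullback fI ((yon S).map (incl U I)) i a) (h : W ⟶ U) :
    ∃ fst : (yon S).obj (subOver W (I.comap h.left)) ⟶ D,
      IsPullback fst ((yon S).map (incl W (I.comap h.left))) i ((yon S).map h ≫ a) := by
  obtain ⟨J, fJ, sqJ⟩ := exists_ideal hi ((yon S).map h ≫ a)
  obtain rfl := comap_eq_of_isPullback sqI sqJ h rfl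
  exact ⟨fJ, sqJ⟩

theorem ker_eq_of_isPullback {X D : Sp S} {i : D ⟶ X} {U V : Over S} {a : (yon S).obj U ⟶ X}
    {I : U.left.IdealSheafData} {fI : (yon S).obj (subOver U I) ⟶ D}
    (sqI : IsPullback fI ((yon S).map (incl U I)) i a) {fst : (yon S).obj V ⟶ D} {g : V ⟶ U}
    (sq : IsPullback fst ((yon S).map g) i a) : g.left.ker = I := by
  obtain ⟨l, hl⟩ := (yon S).map_surjective (sq.isoIsPullback _ _ sqI).hom
  have hli : IsIso l := by
    have : IsIso ((yon S).map l) := by rw [hl]; infer_instance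
    exact isIso_of_fully_faithful (yon S) l
  haveI : IsIso l.left := inferInstanceAs (IsIso ((Over.forget S).map l))
  have hg : l ≫ incl U I = g := (yon S).map_injective (by rw [Functor.map_comp, hl, IsPullback.isoIsPullback_hom_snd])
  rw [← hg]
  show (l.left ≫ I.subschemeι).ker = I
  rw [Scheme.Hom.ker_comp_of_isIso, Scheme.IdealSheafData.ker_subschemeι]

/-- The kernel ideal on an affine chart is the ideal of the pulled back closed subscheme. -/
theorem idealOfRep_ideal {X D : Sp S} {i : D ⟶ X} (hi : RepWith @IsClosedImmersion i) (E : EtOver X)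
    (hE : IsAffine E.obj.left.left) (I : E.obj.left.left.IdealSheafData)
    (fst : (yon S).obj (subOver E.obj.left I) ⟶ D)
    (sq : IsPullback fst ((yon S).map (incl E.obj.left I)) i E.obj.hom) :
    (idealOfRep hi.1).ideal E hE = I.ideal ⟨⊤, isAffineOpen_top E.obj.left.left⟩ := by
  have hP := EtOver.isPullback_bcObj hi.1 E
  haveI : IsClosedImmersion (EtOver.bcπ hi.1 E).left := hi.property _ _ _ hP
  rw [← ker_eq_of_isPullback sq hP, Scheme.Hom.ker_apply]
  rfl

theorem isEffCartierIdeal_of_top {U : Scheme.{u}} [IsAffine U] {I : U.IdealSheafData} {f : Γ(U, ⊤)}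
    (hf : f ∈ nonZeroDivisors Γ(U, ⊤)) (hI : I.ideal ⟨⊤, isAffineOpen_top U⟩ = Ideal.span {f}) :
    BlowUp.IsEffCartierIdeal I :=
  fun _ => ⟨⟨⊤, isAffineOpen_top U⟩, trivial, f, hf, hI⟩

theorem exists_affine_chart_of_isEffCartierIdeal {V : Over S} {I : V.left.IdealSheafData}
    (hI : BlowUp.IsEffCartierIdeal I) (v : V.left) :
    ∃ (U : Over S) (_ : IsAffine U.left) (k : U ⟶ V) (u : U.left) (f : Γ(U.left, ⊤)),
      IsOpenImmersion k.left ∧ k.left u = v ∧ f ∈ nonZeroDivisors Γ(U.left, ⊤) ∧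
        (I.comap k.left).ideal ⟨⊤, isAffineOpen_top U.left⟩ = Ideal.span {f} := by
  obtain ⟨W, hvW, a, ha, hIa⟩ := hI v
  haveI : IsAffine W.1.toScheme := W.2
  let U : Over S := Over.mk (W.1.ι ≫ V.hom)
  let k : U ⟶ V := Over.homMk W.1.ι rfl
  have e : (⊤ : W.1.toScheme.Opens) ≤ W.1.ι ⁻¹ᵁ W.1 := by rw [Scheme.Opens.ι_preimage_self]
  set φ := W.1.ι.appLE W.1 ⊤ e with hφ
  refine ⟨U, W.2, k, ⟨v, hvW⟩, φ.hom a, inferInstanceAs (IsOpenImmersion W.1.ι), rfl, ?_, ?_⟩
  · exact Groth.Divisors.mem_nonZeroDivisors_of_flat φ.hom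
      (HasRingHomProperty.appLE @Flat W.1.ι inferInstance W ⟨⊤, isAffineOpen_top W.1.toScheme⟩ e) ha
  · show (I.comap W.1.ι).ideal ⟨⊤, _⟩ = _
    rw [Groth.BlowUpBasics.ideal_comap W.1.ι I W ⟨⊤, isAffineOpen_top W.1.toScheme⟩ e, hIa, Ideal.map_span,
      Set.image_singleton]
    rfl

theorem isEffCartierIdeal_of_forall_affine {V : Scheme.{u}} {I : V.IdealSheafData}
    (h : ∀ W : V.affineOpens, BlowUp.IsEffCartierIdeal (I.comap W.1.ι)) : BlowUp.IsEffCartierIdeal I := by
  intro v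
  obtain ⟨W, hW, hvW, -⟩ := exists_isAffineOpen_mem_and_subset (X := V) (x := v) (U := ⊤) trivial
  exact exists_generator_of_comap W.ι W.ι.isOpenEmbedding.isOpenMap (h ⟨W, hW⟩) ⟨v, hvW⟩

/-- It suffices to check effective Cartier ideals on affine etale charts. -/
theorem isEffCartierSub_of_forall_affine {X D : Sp S} (hX : IsAlgSpace X) {i : D ⟶ X}
    (hi : RepWith @IsClosedImmersion i)
    (h : ∀ (E : EtOver X) (_ : IsAffine E.obj.left.left) (I : E.obj.left.left.IdealSheafData)
      (fst : (yon S).obj (subOver E.obj.left I) ⟶ D),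
        IsPullback fst ((yon S).map (incl E.obj.left I)) i E.obj.hom → BlowUp.IsEffCartierIdeal I) :
    IsEffCartierSub i := by
  refine isEffCartierSub_of_forall hX hi fun V φ hφ I fst sq => isEffCartierIdeal_of_forall_affine fun W => ?_
  let U : Over S := Over.mk (W.1.ι ≫ V.hom)
  let k : U ⟶ V := Over.homMk W.1.ι rfl
  have hk : RepWith @Etale ((yon S).map k) := (repWith_yon_map_iff _ k).2 (inferInstance : Etale W.1.ι)
  obtain ⟨fW, sqW⟩ := exists_isPullback_comap hi sq k
  exact h (EtOver.mk ((yon S).map k ≫ φ) (Groth.AlgSpBasic.repWith_comp hk hφ)) W.2 _ fW sqW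

/-- On an affine chart of a closed subspace cut out by a product, the ideal is the product. -/
theorem eq_mul_of_idealOfRep_mul {X D₁ D₂ D : Sp S} {i₁ : D₁ ⟶ X} {i₂ : D₂ ⟶ X} {i : D ⟶ X}
    (h₁ : RepWith @IsClosedImmersion i₁) (h₂ : RepWith @IsClosedImmersion i₂) (h : RepWith @IsClosedImmersion i)
    (hmul : idealOfRep h.1 = idealOfRep h₁.1 * idealOfRep h₂.1) (E : EtOver X) (hE : IsAffine E.obj.left.left)
    {I₁ I₂ I : E.obj.left.left.IdealSheafData} {f₁ : (yon S).obj (subOver E.obj.left I₁) ⟶ D₁}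
    {f₂ : (yon S).obj (subOver E.obj.left I₂) ⟶ D₂} {f : (yon S).obj (subOver E.obj.left I) ⟶ D}
    (sq₁ : IsPullback f₁ ((yon S).map (incl E.obj.left I₁)) i₁ E.obj.hom)
    (sq₂ : IsPullback f₂ ((yon S).map (incl E.obj.left I₂)) i₂ E.obj.hom)
    (sq : IsPullback f ((yon S).map (incl E.obj.left I)) i E.obj.hom) : I = I₁ * I₂ := by
  refine Scheme.IdealSheafData.ext_of_isAffine ?_
  rw [Scheme.IdealSheafData.ideal_mul, Pi.mul_apply, ← idealOfRep_ideal h₁ E hE I₁ f₁ sq₁,
    ← idealOfRep_ideal h₂ E hE I₂ f₂ sq₂, ← idealOfRep_ideal h E hE I f sq, hmul]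
  rfl

end Groth.AlgSpCartier
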