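import Groth.Agent.AlgSpCartier.ClosedSubProps
import Groth.Agent.AlgSp3.SchImage
import Groth.Agent.NeronArea.GenericDense
import Groth.Agent.Flatmor4.ImageDom
import Mathlib.RingTheory.Flat.TorsionFree
import Mathlib.AlgebraicGeometry.Morphisms.Preimmersion

/-!
# Closed subspaces of the generic fibre over a Dedekind domain and their scheme theoretic closures
-/

set_option autoImplicit false
set_option backward.isDefEq.respectTransparency.types false
universe u

open CategoryTheory CategoryTheory.Limits AlgebraicGeometry Opposite AlgSp Topology Groth.AlgSpBasic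

namespace Groth.AlgSpCartier

noncomputable section

variable (R : Type u) [CommRing R]

theorem mono_genPt [IsDomain R] : Mono (Neron.genPt R) :=
  have : IsPreimmersion (Neron.genPt R) :=
    IsPreimmersion.of_isLocalization (nonZeroDivisors R)
  inferInstance

theorem flat_genPt [IsDomain R] : Flat (Neron.genPt R) := by
  rw [HasRingHomProperty.Spec_iff (P := @Flat), CommRingCat.hom_ofHom]
  exact RingHom.flat_algebraMap_iff.mpr (IsLocalization.flat (FractionRing R) (nonZeroDivisors R))

/-- Over a Dedekind domain a scheme with scheme theoretically dense generic fibre is flat. -/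
theorem flat_of_genericFibre_dominant [IsDedekindDomain R] {M P : Scheme.{u}}
    {π : M ⟶ Spec (CommRingCat.of R)} {fst : P ⟶ M} {snd : P ⟶ Spec (CommRingCat.of (FractionRing R))}
    (sq : IsPullback fst snd π (Neron.genPt R)) [IsSchemeTheoreticallyDominant fst] : Flat π := by
  have : QuasiCompact fst := MorphismProperty.of_isPullback sq.flip (inferInstanceAs (QuasiCompact (Neron.genPt R)))
  rw [IsZariskiLocalAtSource.iff_of_openCover (P := @Flat) M.affineCover]
  intro j
  show Flat (M.affineCover.f j ≫ π)
  have : IsAffine (M.affineCover.X j) := inferInstance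
  set c := M.affineCover.f j with hc
  rw [HasRingHomProperty.iff_of_isAffine (P := @Flat)]
  set φ := (c ≫ π).appTop.hom with hφ
  let e := (Scheme.ΓSpecIso (CommRingCat.of R)).commRingCatIsoToRingEquiv
  let ψ : R →+* Γ(M.affineCover.X j, ⊤) := φ.comp e.symm.toRingHom
  suffices hψ : ψ.Flat by
    have : φ = ψ.comp e.toRingHom := RingHom.ext fun x => by simp [ψ]
    rw [this]
    exact RingHom.Flat.respectsIso.2 ψ e hψ
  let := ψ.toAlgebra
  show Module.Flat R Γ(M.affineCover.X j, ⊤)
  suffices Module.IsTorsionFree R Γ(M.affineCover.X j, ⊤) from inferInstance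
  refine ⟨fun r hr x y hxy => ?_⟩
  have hr0 : r ≠ 0 := hr.ne_zero
  have hd : IsSchemeTheoreticallyDominant (pullback.snd fst c) :=
    IsSchemeTheoreticallyDominant.of_isPullback (IsPullback.of_hasPullback fst c)
  have hq : QuasiCompact (pullback.snd fst c) := inferInstance
  set g := pullback.snd fst c
  have hcomp : g ≫ c ≫ π = (pullback.fst fst c ≫ snd) ≫ Neron.genPt R := by
    rw [Category.assoc, ← sq.w, ← Category.assoc, ← pullback.condition, Category.assoc]
  have hu : IsUnit (g.appTop.hom (ψ r)) := by
    have h1 : IsUnit ((Neron.genPt R).appTop.hom (e.symm r)) := by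
      have h2 : (Scheme.ΓSpecIso _).hom.hom ((Neron.genPt R).appTop.hom (e.symm r)) =
          algebraMap R (FractionRing R) r := by
        rw [← CommRingCat.comp_apply, Scheme.ΓSpecIso_naturality, CommRingCat.comp_apply]
        exact congrArg (algebraMap R (FractionRing R)) (e.apply_symm_apply r)
      have h4 := (isUnit_iff_ne_zero.2
        ((map_ne_zero_iff _ (IsFractionRing.injective R (FractionRing R))).2 hr0)).map
        (Scheme.ΓSpecIso (CommRingCat.of (FractionRing R))).inv.hom
      rw [← h2, ← CommRingCat.comp_apply, Iso.hom_inv_id] at h4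
      exact h4
    have h3 := congrArg (fun k => k.appTop.hom (e.symm r)) hcomp
    simp only [Scheme.Hom.comp_appTop, CommRingCat.comp_apply] at h3
    show IsUnit (g.appTop.hom ((c ≫ π).appTop.hom (e.symm r)))
    rw [Scheme.Hom.comp_appTop, CommRingCat.comp_apply, h3]
    exact (h1.map _).map _
  have hinj : Function.Injective g.appTop.hom := g.app_injective ⊤
  refine hinj (hu.mul_left_cancel ?_)
  rw [← map_mul, ← map_mul]
  exact congrArg _ hxy

variable {R}

/-- The comparison of a closed subspace with the scheme theoretic closure of the generic fibre. -/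
theorem exists_iso_of_ideal {S : Scheme.{u}} {X Z Z' : Sp S} {V : Over S} {φ : (yon S).obj V ⟶ X}
    (hφ : RepWith @Etale φ) (hφs : RepWith @Surjective φ) {i : Z ⟶ X} {i' : Z' ⟶ X}
    (hi : RepWith @IsClosedImmersion i) (hi' : RepWith @IsClosedImmersion i')
    {I : V.left.IdealSheafData} {fI : (yon S).obj (subOver V I) ⟶ Z}
    (sqI : IsPullback fI ((yon S).map (incl V I)) i φ) {fJ : (yon S).obj (subOver V I) ⟶ Z'}
    (sqJ : IsPullback fJ ((yon S).map (incl V I)) i' φ) : ∃ e : Z ≅ Z', e.hom ≫ i' = i := by
  have := repWith_mono_closedImmersion hi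
  have := repWith_mono_closedImmersion hi'
  have hchart := chart_of_isPullback hφ hφs sqI
  have := isLocallySurjective_of_etale fI hchart.1 hchart.2
  have hchart' := chart_of_isPullback hφ hφs sqJ
  have := isLocallySurjective_of_etale fJ hchart'.1 hchart'.2
  have hle : I ≤ (incl V I).left.ker := (Scheme.IdealSheafData.ker_subschemeι I).ge
  obtain ⟨k, hk⟩ := (exists_lift_iff_le_ker hi' sqJ sqI.w).2 hle
  obtain ⟨l, hl⟩ := (exists_lift_iff_le_ker hi sqI sqJ.w).2 hle
  exact exists_iso_of_lifts k hk l hl

theorem schImage_genericFibre [IsDedekindDomain R]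
    (Y YK H Z : AlgSp.Space (Spec (CommRingCat.of R)))
    (pY : Y.obj ⟶ (AlgSp.yon (Spec (CommRingCat.of R))).obj (Over.mk (𝟙 (Spec (CommRingCat.of R)))))
    (pr : YK ⟶ Y) (qK : YK.obj ⟶ (AlgSp.yon (Spec (CommRingCat.of R))).obj (Over.mk (Neron.genPt R)))
    (hYK : IsPullback pr.hom qK pY
      ((AlgSp.yon (Spec (CommRingCat.of R))).map (Over.mkIdTerminal.from (Over.mk (Neron.genPt R)))))
    (k : H ⟶ YK) (hk : AlgSp.RepWith @IsClosedImmersion k.hom)
    (i : Z ⟶ Y) (hZ : AlgSp.IsSchImage (k.hom ≫ pr.hom) i.hom) :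
    AlgSp.LocP @Flat (i.hom ≫ pY) ∧
    (∃ m : H ⟶ Z, m ≫ i = k ≫ pr ∧ IsPullback m.hom k.hom i.hom pr.hom) ∧
    (∀ (Z' : AlgSp.Space (Spec (CommRingCat.of R))) (i' : Z' ⟶ Y) (m' : H ⟶ Z'),
      AlgSp.RepWith @IsClosedImmersion i'.hom → AlgSp.LocP @Flat (i'.hom ≫ pY) →
      IsPullback m'.hom k.hom i'.hom pr.hom → ∃ e : Z ≅ Z', e.hom ≫ i' = i) := by
  let S : Scheme.{u} := Spec (CommRingCat.of R)
  set t := Over.mkIdTerminal.from (Over.mk (Neron.genPt R))
  have ht : t.left = Neron.genPt R := by
    have := Over.w t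
    simpa using this
  have hflat : RepWith @Flat pr.hom :=
    repWith_of_isPullback hYK.flip ((repWith_yon_map_iff _ t).2 (by rw [ht]; exact flat_genPt R))
  have haff : RepWith @IsAffineHom pr.hom :=
    repWith_of_isPullback hYK.flip ((repWith_yon_map_iff _ t).2 (by rw [ht]; exact inferInstanceAs (IsAffineHom (Neron.genPt R))))
  have hmono : RepWith (MorphismProperty.monomorphisms Scheme.{u}) pr.hom :=
    repWith_of_isPullback hYK.flip ((repWith_yon_map_iff _ t).2 (by rw [ht]; exact mono_genPt R))
  obtain ⟨U, p, hp, hps⟩ := Y.property.atlas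
  obtain ⟨UK, π, fK, sqK⟩ := hflat.rep p
  have : Flat π.left := hflat.property p fK π sqK
  have : IsAffineHom π.left := haff.property p fK π sqK
  have : Mono π.left := hmono.property p fK π sqK
  have hfK : RepWith @Etale fK := repWith_of_isPullback sqK.flip hp
  have hfKs : RepWith @Surjective fK := repWith_of_isPullback sqK.flip hps
  obtain ⟨J, fJ, sqJ⟩ := exists_ideal hk fK
  set q : subOver UK J ⟶ U := incl UK J ≫ π with hq
  have hqc : QuasiCompact q.left := inferInstanceAs (QuasiCompact (J.subschemeι ≫ π.left))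
  have sqC : IsPullback fJ ((yon S).map q) (k.hom ≫ pr.hom) p := by
    rw [hq, Functor.map_comp]; exact sqJ.paste_vert sqK
  let C : Groth.AlgSp3.PullbackChart (k.hom ≫ pr.hom) p :=
    ⟨_, fJ, (yon S).map q, sqC, _, 𝟙 _, q, repWith_isIso _, repWith_isIso _, Category.id_comp _⟩
  obtain ⟨I, fI, sqI⟩ := exists_ideal hZ.1 p
  have hI : I = q.left.ker := by
    have := Groth.AlgSp3.ker_eq_of_isSchImage (C := C) Y.property H.property hp hps Z.property hZ sqI
    rwa [show (incl U I).left.ker = I from Scheme.IdealSheafData.ker_subschemeι I] at this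
  subst hI
  obtain ⟨f', hf'⟩ := hZ.2.1
  -- the generic fibre of the image
  have hsquare : IsPullback f' k.hom i.hom pr.hom := by
    have sqQ := IsPullback.of_hasPullback i.hom pr.hom
    have hsnd : RepWith @IsClosedImmersion (pullback.snd i.hom pr.hom) :=
      repWith_of_isPullback sqQ hZ.1
    have hcomap : q.left.ker.comap π.left = J := by
      have sq0 : IsPullback (𝟙 _) J.subschemeι q.left π.left := by
        refine ⟨⟨by rw [Category.id_comp]; rfl⟩, ⟨PullbackCone.IsLimit.mk _ (fun c => c.fst)
          (fun c => Category.comp_id _) (fun c => ?_) fun c m h₁ _ => ?_⟩⟩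
        · rw [← cancel_mono π.left, Category.assoc]
          exact c.condition
        · rw [← h₁, Category.comp_id]
      rw [← Groth.AlgSp3.ker_of_isPullback_of_flat sq0, Scheme.IdealSheafData.ker_subschemeι]
    have hex := exists_isPullback_comap hZ.1 sqI π
    rw [hcomap] at hex
    obtain ⟨f₁, sq₁⟩ := hex
    rw [← sqK.w] at sq₁
    let fJ' := sqQ.lift f₁ ((yon S).map (incl UK J) ≫ fK) (by rw [sq₁.w, Category.assoc])
    have sqJ' : IsPullback fJ' ((yon S).map (incl UK J)) (pullback.snd i.hom pr.hom) fK :=
      IsPullback.of_right (by rw [sqQ.lift_fst]; exact sq₁) (sqQ.lift_snd _ _ _) sqQ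
    obtain ⟨e, he⟩ := exists_iso_of_ideal hfK hfKs hk hsnd sqJ sqJ'
    have := repWith_mono_closedImmersion hZ.1
    refine IsPullback.of_iso_pullback ⟨hf'⟩ e ?_ he
    rw [← cancel_mono i.hom, Category.assoc, pullback.condition, ← Category.assoc, he, hf']
  refine ⟨?_, ⟨ObjectProperty.homMk f', by ext : 1; exact hf', hsquare⟩, fun Z' i' m' hi' hflat' hm' => ?_⟩
  · -- flatness
    obtain ⟨l, hl⟩ := (yon S).map_surjective (sqI.lift (fJ ≫ f') ((yon S).map q)
      (by rw [Category.assoc, hf']; exact sqC.w))
    have hlq : l ≫ incl U q.left.ker = q :=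
      (yon S).map_injective (by rw [Functor.map_comp, hl, sqI.lift_snd])
    have hdom : IsSchemeTheoreticallyDominant l.left := by
      have h1 : l.left = q.left.toImage := by
        rw [← cancel_mono q.left.ker.subschemeι]
        exact (congrArg CommaMorphism.left hlq).trans q.left.toImage_imageι.symm
      rw [h1]
      exact Groth.Flatmor4.isSchemeTheoreticallyDominant_toImage _
    have sqm : IsPullback fJ ((yon S).map l) f' fI :=
      IsPullback.of_bot (by rw [hl, sqI.lift_snd, hf']; exact sqC)
        (by rw [hl, sqI.lift_fst]) sqI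
    obtain ⟨s', hs'⟩ := (yon S).map_surjective (fJ ≫ k.hom ≫ qK)
    obtain ⟨h, hh⟩ := (yon S).map_surjective (fI ≫ i.hom ≫ pY)
    have sqη : IsPullback l s' h t := by
      refine Groth.AlgSpBasic.isPullback_of_yon ?_
      rw [hs', hh]
      exact sqm.flip.paste_vert (hsquare.paste_vert hYK)
    have sqη' : IsPullback l.left s'.left h.left (Neron.genPt R) := by
      have h0 := isPullback_left sqη
      rw [ht] at h0
      exact h0
    have : Flat h.left := flat_of_genericFibre_dominant R sqη'
    have hchart := chart_of_isPullback hp hps sqI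
    exact locP_of_chart Z.property.diag (IsAlgSpace.yon_obj _).diag hchart.1 hchart.2
      (b := 𝟙 _) (repWith_isIso _) (by rw [Category.comp_id]; exact hh.symm) this
  · -- uniqueness
    obtain ⟨I', fI', sqI'⟩ := exists_ideal hi' p
    obtain ⟨l, hl⟩ := (yon S).map_surjective (sqI'.lift (fJ ≫ m'.hom) ((yon S).map q)
      (by rw [Category.assoc, hm'.w]; exact sqC.w))
    have sqm : IsPullback fJ ((yon S).map l) m'.hom fI' :=
      IsPullback.of_bot (by rw [hl, sqI'.lift_snd, hm'.w]; exact sqC)
        (by rw [hl, sqI'.lift_fst]) sqI'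
    obtain ⟨s', hs'⟩ := (yon S).map_surjective (fJ ≫ k.hom ≫ qK)
    obtain ⟨h, hh⟩ := (yon S).map_surjective (fI' ≫ i'.hom ≫ pY)
    have sqη : IsPullback l s' h t := by
      refine Groth.AlgSpBasic.isPullback_of_yon ?_
      rw [hs', hh]
      exact sqm.flip.paste_vert (hm'.paste_vert hYK)
    have sqη' : IsPullback l.left s'.left h.left (Neron.genPt R) := by
      have h0 := isPullback_left sqη
      rw [ht] at h0
      exact h0
    have hchart := chart_of_isPullback hp hps sqI'
    have : Flat h.left := hflat' fI' (𝟙 _) h hchart.1 (repWith_isIso _)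
      (by rw [Category.comp_id]; exact hh.symm)
    have : QuasiCompact (Neron.genPt R) := inferInstanceAs (QuasiCompact (Spec.map _))
    have hdom : IsSchemeTheoreticallyDominant l.left :=
      IsSchemeTheoreticallyDominant.of_isPullback sqη'.flip
    have hlq : l ≫ incl U I' = q :=
      (yon S).map_injective (by rw [Functor.map_comp, hl, sqI'.lift_snd])
    have hI' : q.left.ker = I' := by
      rw [← hlq]
      show (l.left ≫ I'.subschemeι).ker = I'
      rw [Scheme.Hom.ker_comp, l.left.ker_eq_bot, Scheme.IdealSheafData.map_bot,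
        Scheme.IdealSheafData.ker_subschemeι]
    subst hI'
    obtain ⟨e, he⟩ := exists_iso_of_ideal hp hps hZ.1 hi' sqI sqI'
    exact ⟨⟨ObjectProperty.homMk e.hom, ObjectProperty.homMk e.inv,
      by ext : 1; exact e.hom_inv_id, by ext : 1; exact e.inv_hom_id⟩, by ext : 1; exact he⟩

end

end Groth.AlgSpCartier
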