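import Groth.Agent.AlgSpCartier.Basic
import Groth.Agent.AlgSpBasic.Points
import Groth.Agent.AlgSpBasic.AffineMor
import Groth.Agent.AlgSp2.AffineCriteria
import Groth.Agent.Divisors.EffCartierMore

/-! Complements of closed subspaces on charts. -/

set_option autoImplicit false
set_option backward.isDefEq.respectTransparency.types false
universe u

open CategoryTheory CategoryTheory.Limits AlgebraicGeometry Opposite AlgSp Groth.Divisors

namespace Groth.AlgSpCartier

variable {S : Scheme.{u}} {X D G : Sp S} {i : D ⟶ X} {j : G ⟶ X}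

theorem mem_range_map_iff {V : Over S} {φ : (yon S).obj V ⟶ X} {I : V.left.IdealSheafData}
    {fst : (yon S).obj (subOver V I) ⟶ D} (sq : IsPullback fst ((yon S).map (incl V I)) i φ) (v : ↥V.left) :
    Points.ofPt φ v ∈ Set.range (Points.map i) ↔ v ∈ I.support := by
  rw [← SetLike.mem_coe, ← Scheme.IdealSheafData.range_subschemeι]
  constructor
  · rintro ⟨x, hx⟩
    obtain ⟨w, -, hw⟩ := (Groth.AlgSpBasic.map_eq_ofPt_iff sq x v).mp hx
    exact ⟨w, hw⟩
  · rintro ⟨w, hw⟩
    exact ⟨Points.ofPt fst w, (Groth.AlgSpBasic.map_eq_ofPt_iff sq _ v).mpr ⟨w, rfl, hw⟩⟩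

/-- The complement of a closed subspace pulls back to the complement of its ideal. -/
theorem exists_compl_chart (hj : RepWith @IsOpenImmersion j)
    (hU : Set.range (Points.map j) = (Set.range (Points.map i))ᶜ) {V : Over S} (φ : (yon S).obj V ⟶ X)
    {I : V.left.IdealSheafData} {fst : (yon S).obj (subOver V I) ⟶ D}
    (sq : IsPullback fst ((yon S).map (incl V I)) i φ) :
    ∃ fst' : (yon S).obj (Over.mk ((complOpens I).ι ≫ V.hom)) ⟶ G,
      IsPullback fst' ((yon S).map (Over.homMk (complOpens I).ι rfl : Over.mk ((complOpens I).ι ≫ V.hom) ⟶ V)) j φ := by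
  obtain ⟨W, g, fW, sqW⟩ := hj.rep φ
  haveI : IsOpenImmersion g.left := hj.property φ fW g sqW
  have hrange : Set.range g.left = Set.range (complOpens I).ι := by
    rw [Scheme.Opens.range_ι]
    ext v
    show v ∈ Set.range g.left ↔ v ∉ I.support
    rw [← mem_range_map_iff sq v, ← Set.mem_compl_iff, ← hU]
    constructor
    · rintro ⟨w, rfl⟩
      exact ⟨Points.ofPt fW w, (Groth.AlgSpBasic.map_eq_ofPt_iff sqW _ _).mpr ⟨w, rfl, rfl⟩⟩
    · rintro ⟨x, hx⟩
      obtain ⟨w, -, hw⟩ := (Groth.AlgSpBasic.map_eq_ofPt_iff sqW x v).mp hx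
      exact ⟨w, hw⟩
  let W' : Over S := Over.mk ((complOpens I).ι ≫ V.hom)
  let e : W ≅ W' := Over.isoMk (IsOpenImmersion.isoOfRangeEq g.left (complOpens I).ι hrange) (by
    show _ ≫ (complOpens I).ι ≫ V.hom = W.hom
    rw [← Category.assoc, IsOpenImmersion.isoOfRangeEq_hom_fac, Over.w g])
  refine ⟨(yon S).map e.inv ≫ fW,
    IsPullback.of_iso sqW ((yon S).mapIso e) (Iso.refl _) (Iso.refl _) (Iso.refl _) ?_ ?_ ?_ ?_⟩
  · simp [← Functor.map_comp_assoc]
  · simp only [Iso.refl_hom, Category.comp_id, Functor.mapIso_hom, ← Functor.map_comp]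
    congr 1
    refine Over.OverMorphism.ext ?_
    show g.left = (IsOpenImmersion.isoOfRangeEq g.left (complOpens I).ι hrange).hom ≫ (complOpens I).ι
    rw [IsOpenImmersion.isoOfRangeEq_hom_fac]
  · simp
  · simp

theorem isAffineMor_compl (hX : IsAlgSpace X) (hG : IsAlgSpace G) (hj : RepWith @IsOpenImmersion j)
    (hU : Set.range (Points.map j) = (Set.range (Points.map i))ᶜ) {V : Over S} {φ : (yon S).obj V ⟶ X}
    (hφ : RepWith @Etale φ) (hφs : RepWith @Surjective φ) {I : V.left.IdealSheafData}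
    {fst : (yon S).obj (subOver V I) ⟶ D} (sq : IsPullback fst ((yon S).map (incl V I)) i φ)
    (hI : Curv2.IsLocPrincipal I) : IsAffineMor j := by
  obtain ⟨fst', sq'⟩ := exists_compl_chart hj hU φ sq
  refine Groth.AlgSp2.isAffineMor_of_etale_cover hG hX hφ hφs sq' ?_
  rw [Groth.AlgSpBasic.isAffineMor_iff_repWith, repWith_yon_map_iff]
  exact isAffineHom_compl hI

theorem isSchematicallyDense_compl {Y : Scheme.{u}} {I : Y.IdealSheafData} (hI : BlowUp.IsEffCartierIdeal I) :
    CInt.IsSchematicallyDense (complOpens I) := fun O =>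
  (injective_iff_map_eq_zero _).mpr fun s hs => eq_zero_of_off_support hI s fun x hx hn => by
    rw [← TopCat.Presheaf.germ_res_apply Y.presheaf (homOfLE (inf_le_left : O ⊓ complOpens I ≤ O)) x ⟨hx, hn⟩ s]
    exact (congrArg _ hs).trans (map_zero _)

end Groth.AlgSpCartier
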