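import Groth.Agent.AlgSpCartier.RegKinds
import Groth.Agent.AlgSp2.ImmersionLocality
import Groth.Agent.AlgSpBasic.AlgSpace
import Groth.Agent.AlgSpBasic.LocPInst
import Groth.Prelude.Def_AlgSpMor6
import Groth.Agent.S8654

/-! Flat base change and composition of regular immersions of algebraic spaces. -/

set_option autoImplicit false
set_option backward.isDefEq.respectTransparency.types false
universe u

open CategoryTheory CategoryTheory.Limits AlgebraicGeometry AlgSp Groth.AlgSpBasic

namespace Groth.AlgSpCartier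

variable {S : Scheme.{u}}

theorem repWith_isImmersion_of_isRegImmMor {Z X : Sp S} (hZ : IsAlgSpace Z) (hX : IsAlgSpace X)
    {k : RegImm.Kind} {i : Z ⟶ X} (h : IsRegImmMor k i) : RepWith @IsImmersion i := by
  obtain ⟨V, φ, hφ, hφs⟩ := hX.atlas
  obtain ⟨T, snd, fst, sq⟩ := h.1 φ
  haveI : IsImmersion snd.left := (h.2 φ fst snd hφ sq).1
  refine (Groth.AlgSp2.isLocalOnBase_fppf_repWith_isImmersion (ι := PUnit.{u+1}) (fun _ => (yon S).obj V) (fun _ => φ)
    hX (fun _ => IsAlgSpace.yon_obj V) ⟨fun _ => ⟨?_, ?_⟩, fun y => ?_⟩ i hZ (fun _ => (yon S).obj T)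
    (fun _ => (yon S).map snd) (fun _ => fst) (fun _ => IsAlgSpace.yon_obj T) (fun _ => sq)).2
    (fun _ => (repWith_yon_map_iff _ snd).2 this)
  · exact locP_of_repWith (repWith_mono (fun _ _ g (_ : Etale g) => (inferInstance : Flat g)) hφ)
  · exact locP_of_repWith (repWith_mono (fun _ _ g (_ : Etale g) => (inferInstance : LocallyOfFinitePresentation g)) hφ)
  · obtain ⟨v, hv⟩ := surjective_map_of_repWith hφs y
    exact ⟨PUnit.unit, v, hv⟩

/-- Flat base change of regular immersions of the kinds Koszul, `H₁` and quasi. -/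
theorem isRegImmMor_baseChange {Z X X' P : Sp S} (hZ : IsAlgSpace Z) (hX : IsAlgSpace X) (hX' : IsAlgSpace X')
    {k : RegImm.Kind} (hk : k ≠ .regular) {i : Z ⟶ X} {g : X' ⟶ X} (hi : IsRegImmMor k i) (hg : LocP @Flat g)
    {p : P ⟶ Z} {i' : P ⟶ X'} (sq : IsPullback p i' i g) : IsRegImmMor k i' := by
  have himm : RepWith @IsImmersion i' :=
    repWith_of_isPullback sq (repWith_isImmersion_of_isRegImmMor hZ hX hi)
  refine ⟨himm.1, fun V' T' b' fst' snd' hb' sq' => ?_⟩
  haveI : IsImmersion snd'.left := himm.property b' fst' snd' sq'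
  have sq2 := sq'.paste_horiz sq
  obtain ⟨U, φ, hφ, hφs⟩ := hX.atlas
  obtain ⟨T, snd, fst, sqT⟩ := hi.1 φ
  obtain ⟨W, u, r, hW⟩ := exists_pullback_yon hφ.1 (b' ≫ g)
  haveI : Etale r.left := repWith_fst_of_isPullback hW hφ
  haveI : Surjective r.left := repWith_fst_of_isPullback hW hφs
  have hWa : RepWith @Etale ((yon S).map r ≫ b') :=
    repWith_comp ((repWith_yon_map_iff _ r).2 (inferInstance : Etale r.left)) hb'
  haveI : Flat u.left := hg _ φ u hWa hφ (by rw [Category.assoc]; exact hW.w.symm)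
  obtain ⟨Q, t, q, sqQ⟩ := hi.1 ((yon S).map u ≫ φ)
  obtain ⟨l, hl⟩ := (yon S).map_surjective (sqT.lift q ((yon S).map t ≫ (yon S).map u)
    (by rw [sqQ.w, Category.assoc]))
  have s₁ : IsPullback ((yon S).map l) ((yon S).map t) ((yon S).map snd) ((yon S).map u) :=
    IsPullback.of_right (by rw [hl, sqT.lift_fst]; exact sqQ) (by rw [hl, sqT.lift_snd]) sqT
  obtain ⟨l', hl'⟩ := (yon S).map_surjective (sq2.lift q ((yon S).map t ≫ (yon S).map r)
    (by rw [sqQ.w, Category.assoc, hW.w]))
  have s₂ : IsPullback ((yon S).map l') ((yon S).map t) ((yon S).map snd') ((yon S).map r) :=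
    IsPullback.of_right (by rw [hl', sq2.lift_fst, ← hW.w]; exact sqQ) (by rw [hl', sq2.lift_snd]) sq2
  have p₁ := isPullback_left (isPullback_of_yon s₁)
  have hU := hi.2 φ fst snd hφ sqT
  have hQ : RegImm.IsRegularImmersion k t.left :=
    ⟨MorphismProperty.of_isPullback p₁ hU.1, fun z =>
      Groth.KoszulLCI.isRegularImmersionAt_baseChange_kind k snd.left u.left t.left l.left p₁ z (hU.2 _)⟩
  exact Groth.RegKinds.isRegularImmersion_descent k hk snd'.left r.left t.left l'.left
    (isPullback_left (isPullback_of_yon s₂)) hQ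

theorem isRegImmMor_comp {Z Y X : Sp S} {k k' : RegImm.Kind} {i : Z ⟶ Y} {j : Y ⟶ X}
    (hi : IsRegImmMor k i) (hj : IsRegImmMor k' j)
    (hc : ∀ {A B C : Scheme.{u}} (f : A ⟶ B) (g : B ⟶ C), RegImm.IsRegularImmersion k f →
      RegImm.IsRegularImmersion k' g → RegImm.IsRegularImmersion k' (f ≫ g)) : IsRegImmMor k' (i ≫ j) := by
  have hrep : Representable (i ≫ j) :=
    (inferInstance : MorphismProperty.IsStableUnderComposition (Functor.relativelyRepresentable (yon S))).comp_mem _ _ hi.1 hj.1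
  refine ⟨hrep, fun V W b fst snd hb sq => ?_⟩
  obtain ⟨T, tj, fj, sqj⟩ := hj.1 b
  have hfj : RepWith @Etale fj := repWith_of_isPullback sqj.flip hb
  obtain ⟨l, hl⟩ := (yon S).map_surjective (sqj.lift (fst ≫ i) ((yon S).map snd)
    (by rw [Category.assoc]; exact sq.w))
  have hls : l ≫ tj = snd := (yon S).map_injective (by rw [Functor.map_comp, hl, sqj.lift_snd])
  have sqi : IsPullback fst ((yon S).map l) i fj := by
    refine IsPullback.of_bot ?_ ?_ sqj
    · rw [← Functor.map_comp, hls]; exact sq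
    · rw [hl, sqj.lift_fst]
  show RegImm.IsRegularImmersion k' snd.left
  rw [← hls]
  exact hc l.left tj.left (hi.2 fj fst l hfj sqi) (hj.2 b fj tj hb sqj)

end Groth.AlgSpCartier
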