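import Groth.Agent.AlgSpCartier.RegKindsAlg
import Groth.Agent.AlgSpCartier.Descent

/-! Descent along etale coverings and composition of regular immersions of the kinds Koszul, H₁, quasi. -/

set_option autoImplicit false
universe u

open CategoryTheory CategoryTheory.Limits AlgebraicGeometry
open Groth.KoszulReg (surjective_app isAffineOpen_preimage isClosedImmersion_restrict)

namespace Groth.RegKinds

variable {X Y Z X' Y' : Scheme.{u}}

theorem ker_app_baseChange (i : Y ⟶ X) (g : X' ⟶ X) (i' : Y' ⟶ X') (g' : Y' ⟶ Y) (hsq : IsPullback g' i' i g)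
    (U : X.affineOpens) [IsClosedImmersion (i ∣_ U.1)] {U' : X'.Opens} (hU' : IsAffineOpen U')
    (hU'le : U' ≤ g ⁻¹ᵁ U.1) :
    RingHom.ker (i'.app U').hom = (RingHom.ker (i.app U.1).hom).map (g.appLE U.1 U' hU'le).hom := by
  have hUX : i ⁻¹ᵁ U.1 ≤ i ⁻¹ᵁ U.1 := le_rfl
  have hUY : i' ⁻¹ᵁ U' = g' ⁻¹ᵁ (i ⁻¹ᵁ U.1) ⊓ i' ⁻¹ᵁ U' := by
    refine (inf_eq_right.mpr fun y hy => ?_).symm
    change i (g' y) ∈ U.1
    rw [← Scheme.Hom.comp_apply, hsq.w]
    exact hU'le hy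
  have hpo := (isIso_pushoutSection_iff hsq hU'le hUX hUY).mp
    (isIso_pushoutSection_of_isAffineOpen hsq hU'le hUX hUY U.2 hU'
      (isAffineOpen_preimage i U.1 U.2))
  have happ : ∀ (e : i' ⁻¹ᵁ U' ≤ i' ⁻¹ᵁ U'), i'.appLE U' (i' ⁻¹ᵁ U') e = i'.app U' :=
    fun _ => (i'.app_eq_appLE).symm
  have happ' : i.appLE U.1 (i ⁻¹ᵁ U.1) hUX = i.app U.1 := (i.app_eq_appLE).symm
  rw [happ, happ'] at hpo
  refine le_antisymm ?_ (Ideal.map_le_iff_le_comap.mpr fun x hx => ?_)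
  · set J := (RingHom.ker (i.app U.1).hom).map (g.appLE U.1 U' hU'le).hom
    let inl : Γ(Y, i ⁻¹ᵁ U.1) →+* Γ(X', U') ⧸ J :=
      (i.app U.1).hom.liftOfSurjective (surjective_app i U.1 U.2)
        ⟨(Ideal.Quotient.mk J).comp (g.appLE U.1 U' hU'le).hom, fun x hx =>
          Ideal.Quotient.eq_zero_iff_mem.mpr (Ideal.mem_map_of_mem _ hx)⟩
    have hcomm : i.app U.1 ≫ CommRingCat.ofHom inl =
        g.appLE U.1 U' hU'le ≫ CommRingCat.ofHom (Ideal.Quotient.mk J) := by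
      ext x
      simp only [inl, RingHom.liftOfSurjective, CommRingCat.hom_comp, CommRingCat.hom_ofHom, RingHom.comp_apply]
      exact RingHom.liftOfRightInverse_comp_apply _ _ _ _ _
    intro x hx
    rw [← Ideal.Quotient.eq_zero_iff_mem]
    have h2 := congr_arg (fun φ => φ.hom x) (hpo.inr_desc _ _ hcomm)
    simp only [CommRingCat.hom_comp, RingHom.comp_apply, CommRingCat.hom_ofHom] at h2
    rw [← h2, RingHom.mem_ker.mp hx, map_zero]
  · rw [Ideal.mem_comap, RingHom.mem_ker]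
    have h2 := congr_arg (fun φ => φ.hom x) hpo.w
    simp only [CommRingCat.hom_comp, RingHom.comp_apply] at h2
    rw [← h2, RingHom.mem_ker.mp hx, map_zero]

theorem seq_isKind_map {R B : Type u} [CommRing R] [CommRing B] (k : RegImm.Kind) (θ : R →+* B) (hθ : θ.Flat)
    {l : List R} (h : k.Seq R l) {P : Ideal B} (hP : P.IsPrime) (hle : Ideal.ofList (l.map θ) ≤ P) :
    k.Seq B (l.map θ) :=
  Groth.KoszulLCI.seq_map k θ hθ h (ne_top_of_le_ne_top hP.ne_top hle)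

theorem chart_basicOpen (k : RegImm.Kind) (i : Z ⟶ X) (U : X.affineOpens) [IsClosedImmersion (i ∣_ U.1)]
    (rs : List Γ(X, U.1)) (hrs : k.Seq Γ(X, U.1) rs) (hker : RingHom.ker (i.app U.1).hom = Ideal.ofList rs)
    (f : Γ(X, U.1)) {z : Z} (hz : i z ∈ X.basicOpen f) :
    IsClosedImmersion (i ∣_ X.basicOpen f) ∧
      ∃ ts : List Γ(X, X.basicOpen f), k.Seq Γ(X, X.basicOpen f) ts ∧
        ts = rs.map (X.presheaf.map (homOfLE (X.basicOpen_le f)).op).hom ∧
        RingHom.ker (i.app (X.basicOpen f)).hom = Ideal.ofList ts := by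
  have hk : RingHom.ker (i.app (X.basicOpen f)).hom =
      Ideal.ofList (rs.map (X.presheaf.map (homOfLE (X.basicOpen_le f)).op).hom) := by
    rw [Groth.KoszulLCI.ker_app_basicOpen i U.2 f, hker, Ideal.map_ofList]
  haveI := isClosedImmersion_restrict i (X.basicOpen_le f)
  refine ⟨this, _, seq_isKind_map k _ ?_ hrs ((U.2.basicOpen f).primeIdealOf ⟨i z, hz⟩).isPrime ?_, rfl, hk⟩
  · let _ := (X.presheaf.map (homOfLE (X.basicOpen_le f)).op).hom.toAlgebra
    have := U.2.isLocalization_basicOpen f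
    exact IsLocalization.flat Γ(X, X.basicOpen f) (Submonoid.powers f)
  · rw [← hk]
    exact Groth.KoszulLCI.ker_app_le_primeIdealOf i (U.2.basicOpen f) z hz

/-- The kinds Koszul, `H₁` and quasi of regular immersion descend along etale surjections. -/
theorem isRegularImmersion_descent (k : RegImm.Kind) (hk : k ≠ .regular) (i : Y ⟶ X) [IsImmersion i]
    (e : X' ⟶ X) [Etale e] [Surjective e] (i' : Y' ⟶ X') (e' : Y' ⟶ Y) (hsq : IsPullback e' i' i e)
    (h : RegImm.IsRegularImmersion k i') : RegImm.IsRegularImmersion k i := by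
  refine ⟨inferInstance, fun z => ?_⟩
  haveI : Surjective e' := MorphismProperty.of_isPullback hsq.flip (inferInstanceAs (Surjective e))
  obtain ⟨z', rfl⟩ := e'.surjective z
  obtain ⟨W, hzW, hcW, ls, hls, hkW⟩ := h.2 z'
  have := Groth.KoszulLCI.isClosedImmersion_restrict_coborder i
  obtain ⟨U, hU, hzU, hUle⟩ := exists_isAffineOpen_mem_and_subset
    (show i (e' z') ∈ i.coborderRange from subset_coborder ⟨_, rfl⟩)
  haveI : IsClosedImmersion (i ∣_ U) := isClosedImmersion_restrict i hUle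
  have hez : e (i' z') = i (e' z') := by rw [← Scheme.Hom.comp_apply, ← hsq.w]; rfl
  obtain ⟨b, hb, hzb⟩ := W.2.exists_basicOpen_le (V := e ⁻¹ᵁ U) ⟨i' z', show e (i' z') ∈ U from hez ▸ hzU⟩ hzW
  haveI := hcW
  obtain ⟨hc1, ts, hts, -, hkt⟩ := chart_basicOpen k i' W ls hls hkW b hzb
  let O : X.Opens := ⟨e '' (X'.basicOpen b : X'.Opens), e.isOpenMap _ (X'.basicOpen b).2⟩
  obtain ⟨s, hs, hzs⟩ := hU.exists_basicOpen_le (V := O) ⟨i (e' z'), i' z', hzb, hez⟩ hzU
  let c := (e.appLE U (X'.basicOpen b) hb).hom s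
  have hc : X'.basicOpen c = X'.basicOpen b ⊓ e ⁻¹ᵁ X.basicOpen s := Scheme.basicOpen_appLE ..
  have hzc : i' z' ∈ X'.basicOpen c := by
    rw [hc]
    exact ⟨hzb, show e (i' z') ∈ X.basicOpen s from hez ▸ hzs⟩
  haveI := hc1
  obtain ⟨hc2, us, hus, -, hku⟩ := chart_basicOpen k i' ⟨X'.basicOpen b, W.2.basicOpen b⟩ ts hts hkt c hzc
  haveI : IsClosedImmersion (i ∣_ X.basicOpen s) := isClosedImmersion_restrict i (X.basicOpen_le s)
  have hle : X'.basicOpen c ≤ e ⁻¹ᵁ X.basicOpen s := hc.le.trans inf_le_right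
  have hA' : IsAffineOpen (X'.basicOpen c) := (W.2.basicOpen b).basicOpen c
  have hsurj : (X.basicOpen s : Set X) ⊆ e '' X'.basicOpen c := fun x hx => by
    obtain ⟨y, hy, rfl⟩ := hs hx
    refine ⟨y, ?_, rfl⟩
    rw [hc]
    exact ⟨hy, hx⟩
  have hff := Groth.AlgSpCartier.faithfullyFlat_appLE e (hU.basicOpen s) hA' hle hsurj
  let A := Γ(X, X.basicOpen s)
  letI := (e.appLE (X.basicOpen s) (X'.basicOpen c) hle).hom.toAlgebra
  have hk' := ker_app_baseChange i e i' e' hsq ⟨X.basicOpen s, hU.basicOpen s⟩ hA' hle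
  haveI := hff
  obtain ⟨t, ht, rs, hrs, hJ⟩ := seq_descent k hk (A := Γ(X, X.basicOpen s)) (B := Γ(X', X'.basicOpen c))
    (RingHom.ker (i.app (X.basicOpen s)).hom) us hus (hk'.symm.trans hku)
    ((hU.basicOpen s).primeIdealOf ⟨i (e' z'), hzs⟩).asIdeal
    (Groth.KoszulLCI.ker_app_le_primeIdealOf i (hU.basicOpen s) _ hzs)
  have hzt : i (e' z') ∈ X.basicOpen t := by
    have h3 : (hU.basicOpen s).primeIdealOf ⟨i (e' z'), hzs⟩ ∈ PrimeSpectrum.basicOpen t := ht
    rw [← (hU.basicOpen s).fromSpec_preimage_basicOpen] at h3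
    have h5 : (hU.basicOpen s).fromSpec ((hU.basicOpen s).primeIdealOf ⟨i (e' z'), hzs⟩) ∈ X.basicOpen t := h3
    rwa [(hU.basicOpen s).fromSpec_primeIdealOf] at h5
  let _ := (X.presheaf.map (homOfLE (X.basicOpen_le t)).op).hom.toAlgebra
  have := (hU.basicOpen s).isLocalization_basicOpen t
  let ψ := IsLocalization.algEquiv (Submonoid.powers t) (Localization.Away t) Γ(X, X.basicOpen t)
  refine Groth.KoszulLCI.exists_seq_of_ker k i (e' z') ⟨X.basicOpen t, (hU.basicOpen s).basicOpen t⟩ hzt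
    (isClosedImmersion_restrict i (X.basicOpen_le t)) ψ.toAlgHom.toRingHom
    (RingHom.Flat.of_bijective (f := ψ.toAlgHom.toRingHom) ψ.bijective) rs hrs ?_
  rw [← Ideal.map_ofList, ← hJ, Ideal.map_map, Groth.KoszulLCI.ker_app_basicOpen i (hU.basicOpen s) t]
  congr 1
  exact RingHom.ext fun a => (ψ.commutes a).symm

/-- A composite of regular immersions: an inner `H₁` immersion and an outer one of kind `H₁` or quasi. -/
theorem isRegularImmersion_comp (k : RegImm.Kind) (hk : k = .h1 ∨ k = .quasi) (i : Y ⟶ X) (j : Z ⟶ Y)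
    (hi : RegImm.IsRegularImmersion k i) (hj : RegImm.IsRegularImmersion .h1 j) :
    RegImm.IsRegularImmersion k (j ≫ i) := by
  obtain ⟨himmi, hi⟩ := hi
  obtain ⟨himmj, hj⟩ := hj
  refine ⟨inferInstance, fun z => ?_⟩
  obtain ⟨U, hzU, hciU, rs, hrs, hkeri⟩ := hi (j z)
  obtain ⟨V, hzV, hciV, ss, hss, hkerj⟩ := hj z
  haveI := hciU
  haveI := hciV
  obtain ⟨b, b', hbb', hzb⟩ := exists_basicOpen_le_affine_inter (isAffineOpen_preimage i U.1 U.2) V.2
    (j z) ⟨hzU, hzV⟩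
  obtain ⟨a, rfl⟩ := surjective_app i U.1 U.2 b
  have hpre : i ⁻¹ᵁ X.basicOpen a = Y.basicOpen b' := by
    rw [Scheme.preimage_basicOpen]; exact hbb'
  have hza : i (j z) ∈ X.basicOpen a := by
    show j z ∈ i ⁻¹ᵁ X.basicOpen a
    rw [Scheme.preimage_basicOpen]; exact hzb
  obtain ⟨hci, rs', hrs', -, hkeri'⟩ := chart_basicOpen k i U rs hrs hkeri a hza
  obtain ⟨hcj, ss', hss', -, hkerj'⟩ := chart_basicOpen .h1 j V ss hss hkerj b' (show j z ∈ Y.basicOpen b' from hbb' ▸ hzb)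
  have hA := U.2.basicOpen a
  have hsurj := surjective_app i _ hA
  obtain ⟨ss'', hss'', hkj⟩ : ∃ l : List Γ(Y, i ⁻¹ᵁ X.basicOpen a), RegImm.Kind.Seq .h1 Γ(Y, i ⁻¹ᵁ X.basicOpen a) l ∧
      RingHom.ker (j.app (i ⁻¹ᵁ X.basicOpen a)).hom = Ideal.ofList l := by
    rw [hpre]; exact ⟨ss', hss', hkerj'⟩
  obtain ⟨gs, rfl⟩ : ∃ gs : List Γ(X, X.basicOpen a), gs.map (i.app (X.basicOpen a)).hom = ss'' :=
    ⟨ss''.map (Function.surjInv hsurj), by rw [List.map_map, Function.comp_surjInv, List.map_id]⟩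
  refine ⟨⟨X.basicOpen a, hA⟩, hza, ?_, rs' ++ gs, ?_, ?_⟩
  · change IsClosedImmersion ((j ≫ i) ∣_ X.basicOpen a)
    rw [morphismRestrict_comp]
    haveI : IsClosedImmersion (j ∣_ i ⁻¹ᵁ X.basicOpen a) := hpre ▸ hcj
    exact MorphismProperty.comp_mem _ _ _ this hci
  · rcases hk with rfl | rfl
    · exact seq_h1_append hsurj hrs' hkeri' hss''
    · exact seq_quasi_append hsurj hrs' hkeri' hss''
  · change RingHom.ker ((j.app (i ⁻¹ᵁ X.basicOpen a)).hom.comp (i.app (X.basicOpen a)).hom) = _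
    rw [← RingHom.comap_ker, hkj, ← Ideal.map_ofList, Ideal.comap_map_of_surjective _ hsurj, Ideal.ofList_append,
      sup_comm]
    congr 1

end Groth.RegKinds
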