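import Groth.Agent.KoszulLCI.Kinds
import Groth.Agent.PP.QRDescent
import Groth.Agent.S9251
import Groth.Agent.S2104
import Groth.Agent.S2105
import Mathlib.RingTheory.Flat.FaithfullyFlat.Algebra
import Mathlib.LinearAlgebra.Matrix.Adjugate

/-! Descent and composition of Koszul-regular, `H₁`-regular and quasi-regular sequences. -/

set_option autoImplicit false
universe u

open TensorProduct Matrix

namespace Groth.RegKinds

variable {R : Type u} [CommRing R] {A B : Type u} [CommRing A] [CommRing B]

/-- The trivial relations of `f`. -/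
abbrev relTriv {c : ℕ} (f : Fin c → R) : Submodule R (Fin c → R) :=
  Submodule.span R {v : Fin c → R | ∃ i j : Fin c, v = Pi.single i (f j) - Pi.single j (f i)}

theorem sum_smul_gen_mem {c : ℕ} (f : Fin c → R) (x y : Fin c → R) :
    (fun k => (∑ l, x l * f l) * y k - (∑ l, y l * f l) * x k) ∈ relTriv f := by
  have e : (fun k => (∑ l, x l * f l) * y k - (∑ l, y l * f l) * x k) =
      ∑ l, ∑ k, (x l * y k) • (Pi.single k (f l) - Pi.single l (f k) : Fin c → R) := by
    funext m
    simp only [Finset.sum_apply, Pi.smul_apply, Pi.sub_apply, smul_eq_mul, mul_sub, Finset.sum_sub_distrib]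
    simp only [Pi.single_apply, mul_ite, mul_zero, Finset.sum_ite_eq, Finset.mem_univ, if_true]
    rw [Finset.sum_comm (f := fun (l : Fin c) (k : Fin c) => if m = l then x l * y k * f k else 0)]
    simp only [Finset.sum_ite_eq, Finset.mem_univ, if_true, Finset.sum_mul]
    congr 1
    · exact Finset.sum_congr rfl fun l _ => by ring
    · exact Finset.sum_congr rfl fun l _ => by ring
  rw [e]
  exact sum_mem fun l _ => sum_mem fun k _ => Submodule.smul_mem _ _ (Submodule.subset_span ⟨k, l, rfl⟩)

/-- A relation is trivial after multiplying by any element of the ideal. -/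
theorem mul_relation_mem {c : ℕ} (f : Fin c → R) {a : Fin c → R} (ha : ∑ i, a i * f i = 0) (i : Fin c) :
    f i • a ∈ relTriv f := by
  have h := sum_smul_gen_mem f (Pi.single i 1) a
  convert h using 1
  funext k
  simp [Pi.single_apply, ha]

theorem relTriv_vecMul {r c : ℕ} (f : Fin r → R) (g : Fin c → R) (N : Matrix (Fin c) (Fin r) R) (d : R)
    (hN : N *ᵥ f = d • g) {w : Fin c → R} (hw : w ∈ relTriv g) : d • (w ᵥ* N) ∈ relTriv f := by
  induction hw using Submodule.span_induction with
  | mem w hw =>
    obtain ⟨i, j, rfl⟩ := hw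
    have h := sum_smul_gen_mem f (N j) (N i)
    have e : ∀ i, ∑ l, N i l * f l = d * g i := fun i => by simpa [mulVec, dotProduct] using congrFun hN i
    rw [e, e] at h
    convert h using 1
    funext k
    simp [sub_vecMul, Matrix.single_vecMul, mul_sub, mul_assoc]
  | zero => simp
  | add x y _ _ hx hy => rw [add_vecMul, smul_add]; exact add_mem hx hy
  | smul a x _ hx => rw [smul_vecMul, smul_comm]; exact Submodule.smul_mem _ a hx

/-- Independence modulo the ideal of a quasi-regular sequence. -/
theorem coeff_mem_of_isQuasiRegular {r : ℕ} {f : Fin r → R} (hf : CAlgX.IsQuasiRegular f) {a : Fin r → R}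
    (ha : ∑ i, a i * f i = 0) (i : Fin r) : a i ∈ Ideal.span (Set.range f) := by
  classical
  have h := hf 1 (∑ j, MvPolynomial.C (a j) * MvPolynomial.X j)
    (MvPolynomial.IsHomogeneous.sum _ _ _ fun j _ => by
      simpa using (MvPolynomial.isHomogeneous_C (Fin r) (a j)).mul (MvPolynomial.isHomogeneous_X R j))
    (by simp [ha]) (Finsupp.single i 1)
  simpa [MvPolynomial.coeff_sum, MvPolynomial.coeff_C_mul, MvPolynomial.coeff_X', Finsupp.single_left_inj] using h

theorem mem_of_forall_prime {c : ℕ} (N : Submodule R (Fin c → R)) (a : Fin c → R)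
    (h : ∀ Q : Ideal R, Q.IsPrime → ∃ t ∉ Q, t • a ∈ N) : a ∈ N := by
  let I : Ideal R := N.comap (LinearMap.toSpanSingleton R _ a)
  by_contra hne
  obtain ⟨Q, hQ, hIQ⟩ := Ideal.exists_le_maximal I (fun hI => hne (by
    simpa [I] using (Ideal.eq_top_iff_one _).1 hI))
  obtain ⟨t, ht, hta⟩ := h Q hQ.isPrime
  exact ht (hIQ (by simpa [I] using hta))

/-- A quasi-regular sequence generating the ideal of an `H₁`-regular sequence is `H₁`-regular. -/
theorem isH1Regular_of_span_eq {r c : ℕ} {f : Fin r → R} {g : Fin c → R} (hf : CAlgX.IsQuasiRegular f)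
    (hg : CAlgX.IsH1Regular g) (hfg : Ideal.span (Set.range f) = Ideal.span (Set.range g)) :
    CAlgX.IsH1Regular f := by
  classical
  intro a ha
  have hM : ∀ i, ∃ m : Fin c → R, ∑ j, m j * g j = f i := fun i =>
    Ideal.mem_span_range_iff_exists_fun.1 (hfg ▸ Ideal.subset_span ⟨i, rfl⟩)
  have hN : ∀ j, ∃ m : Fin r → R, ∑ i, m i * f i = g j := fun j =>
    Ideal.mem_span_range_iff_exists_fun.1 (hfg ▸ Ideal.subset_span ⟨j, rfl⟩)
  choose M hM using hM
  choose N hN using hN
  have hMg : Matrix.of M *ᵥ g = f := funext hM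
  have hNf : Matrix.of N *ᵥ f = g := funext hN
  let P : Matrix (Fin r) (Fin r) R := Matrix.of M * Matrix.of N
  have hPf : P *ᵥ f = f := by rw [← mulVec_mulVec, hNf, hMg]
  have h1 : a ᵥ* Matrix.of M ∈ relTriv g := by
    refine hg _ ?_
    show (a ᵥ* Matrix.of M) ⬝ᵥ g = 0
    rw [← dotProduct_mulVec, hMg]
    exact ha
  have h2 : a ᵥ* P ∈ relTriv f := by
    have := relTriv_vecMul f g (Matrix.of N) 1 (by rw [hNf, one_smul]) h1
    rwa [one_smul, vecMul_vecMul] at this
  have hadj : P.adjugate *ᵥ f = P.det • f := by
    conv_lhs => rw [← hPf]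
    rw [mulVec_mulVec, adjugate_mul, smul_mulVec, one_mulVec]
  have h3 : (P.det * P.det) • a ∈ relTriv f := by
    have := relTriv_vecMul f f P.adjugate P.det hadj h2
    rwa [vecMul_vecMul, mul_adjugate, vecMul_smul, vecMul_one, smul_smul] at this
  refine mem_of_forall_prime _ a fun Q hQ => ?_
  by_cases hle : Ideal.span (Set.range f) ≤ Q
  · refine ⟨P.det * P.det, fun hmem => ?_, h3⟩
    have hdet : P.det ∈ Q := (hQ.mem_or_mem hmem).elim id id
    rw [← Ideal.Quotient.eq_zero_iff_mem, RingHom.map_det] at hdet
    have hP1 : (Ideal.Quotient.mk Q).mapMatrix P = 1 := by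
      ext i j
      have hrel : ∑ k, (P i k - (1 : Matrix (Fin r) (Fin r) R) i k) * f k = 0 := by
        have : (P *ᵥ f) i - ((1 : Matrix (Fin r) (Fin r) R) *ᵥ f) i = 0 := by rw [hPf, one_mulVec, sub_self]
        simpa [mulVec, dotProduct, sub_mul, Finset.sum_sub_distrib] using this
      have := hle (coeff_mem_of_isQuasiRegular hf hrel j)
      rw [← Ideal.Quotient.eq_zero_iff_mem, map_sub, sub_eq_zero] at this
      simpa [Matrix.one_apply, apply_ite] using this
    rw [hP1, det_one] at hdet
    exact one_ne_zero hdet
  · obtain ⟨_, ⟨i, rfl⟩, hi⟩ : ∃ y ∈ Set.range f, y ∉ Q := by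
      by_contra hall
      push Not at hall
      exact hle (Ideal.span_le.2 hall)
    exact ⟨f i, hi, mul_relation_mem f ha i⟩

/-- `H₁`-regularity descends along faithfully flat maps. -/
theorem isH1Regular_descent [Algebra A B] [Module.FaithfullyFlat A B] {r : ℕ} {f : Fin r → A}
    (hf : CAlgX.IsH1Regular (algebraMap A B ∘ f)) : CAlgX.IsH1Regular f := by
  classical
  intro a ha
  have h := hf (algebraMap A B ∘ a) (by simp [← map_mul, ← map_sum, ha])
  let L := (relTriv f).mkQ.lTensor B
  let e := TensorProduct.piScalarRight A B B (Fin r)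
  have he : ∀ v : Fin r → A, e.symm (algebraMap A B ∘ v) = (1 : B) ⊗ₜ[A] v := fun v => by
    rw [LinearEquiv.symm_apply_eq]
    funext i
    simp [e, Algebra.smul_def]
  have key : ∀ w ∈ relTriv (algebraMap A B ∘ f), L (e.symm w) = 0 := by
    intro w hw
    induction hw using Submodule.span_induction with
    | mem w hw =>
      obtain ⟨i, j, rfl⟩ := hw
      have : (Pi.single i ((algebraMap A B ∘ f) j) - Pi.single j ((algebraMap A B ∘ f) i) : Fin r → B) =
          algebraMap A B ∘ (Pi.single i (f j) - Pi.single j (f i) : Fin r → A) := by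
        funext k
        simp [Pi.single_apply, apply_ite (algebraMap A B)]
      rw [this, he]
      simp only [L, LinearMap.lTensor_tmul, Submodule.mkQ_apply,
        (Submodule.Quotient.mk_eq_zero (relTriv f)).2 (Submodule.subset_span ⟨i, j, rfl⟩), TensorProduct.tmul_zero]
    | zero => simp
    | add x y _ _ hx hy => rw [map_add, map_add, hx, hy, add_zero]
    | smul b x _ hx =>
      rw [map_smul]
      have : ∀ z : B ⊗[A] (Fin r → A), L (b • z) = b • L z := fun z => by
        induction z with
        | zero => simp
        | add x y hx hy => rw [smul_add, map_add, map_add, hx, hy, smul_add]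
        | tmul c v => simp [L, TensorProduct.smul_tmul']
      rw [this, hx, smul_zero]
  have h2 := key _ h
  rw [he] at h2
  simp only [L, LinearMap.lTensor_tmul] at h2
  exact (Submodule.Quotient.mk_eq_zero _).1
    (Module.FaithfullyFlat.tensorProduct_mk_injective (A := A) (B := B) _ (h2.trans (TensorProduct.tmul_zero _ _).symm))

theorem range_get (l : List R) : Ideal.span (Set.range l.get) = Ideal.ofList l := by
  rw [Ideal.ofList, Set.range_list_get]

/-- Local descent of sequences of the kinds Koszul, `H₁` and quasi. -/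
theorem seq_descent (k : RegImm.Kind) (hk : k ≠ .regular) [Algebra A B] [Module.FaithfullyFlat A B] (J : Ideal A)
    (ls : List B) (hls : k.Seq B ls) (hJ : J.map (algebraMap A B) = Ideal.ofList ls)
    (P : Ideal A) [hP : P.IsPrime] (hJP : J ≤ P) :
    ∃ s ∉ P, ∃ rs : List (Localization.Away s), k.Seq (Localization.Away s) rs ∧
      J.map (algebraMap A (Localization.Away s)) = Ideal.ofList rs := by
  cases k with
  | regular => exact absurd rfl hk
  | koszul =>
    have hK : LCI.IsKoszulRegularIdeal (J.map (algebraMap A B)) := fun Q hQ => ⟨1, Q.isPrime.one_notMem,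
      ls.map (algebraMap B (Localization.Away (1 : B))),
      Groth.KoszulReg.isKoszulRegularSeq_map _ (RingHom.flat_algebraMap_iff.mpr inferInstance) ls hls,
      by rw [hJ, Ideal.map_ofList]⟩
    obtain ⟨s, hs, rs, hrs, hspan⟩ := Groth.Agent.S9251.result A B J hK ⟨P, hP⟩ hJP
    exact ⟨s, hs, rs, hrs, hspan⟩
  | quasi | h1 =>
    have hq0 : CAlgX.IsQuasiRegular ls.get := Groth.KoszulLCI.seq_quasi _ hls
    have hL : PP16.IsLocallyQuasiRegular B (J.map (algebraMap A B)) := fun Q hQ _ => ⟨1, hQ.one_notMem,
      ls.length, algebraMap B (Localization.Away (1 : B)) ∘ ls.get,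
      Groth.KoszulLCI.isQuasiRegular_map _ (RingHom.flat_algebraMap_iff.mpr inferInstance) hq0,
      by rw [Set.range_comp, ← Ideal.map_span, range_get, hJ]⟩
    obtain ⟨s, hs, r, f, hf, hspan⟩ := Groth.PP.QR.lqr_of_faithfullyFlat J hL P hJP
    refine ⟨s, hs, List.ofFn f, ?_, by
      rw [← hspan, Ideal.ofList]; congr 1; ext x; simp⟩
    first
    | (show CAlgX.IsQuasiRegular (List.ofFn f).get
       rw [show (List.ofFn f).get = fun i => f (i.cast List.length_ofFn) from funext fun i => List.get_ofFn f i]
       exact Groth.KoszulLCI.cast_transfer (fun c g => CAlgX.IsQuasiRegular (c := c) g) List.length_ofFn f hf)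
    | (show CAlgX.IsH1Regular (List.ofFn f).get
       rw [show (List.ofFn f).get = fun i => f (i.cast List.length_ofFn) from funext fun i => List.get_ofFn f i]
       refine Groth.KoszulLCI.cast_transfer (fun c g => CAlgX.IsH1Regular (c := c) g) List.length_ofFn f
         (isH1Regular_descent (B := Localization.Away s ⊗[A] B) ?_)
       let φ : B →+* Localization.Away s ⊗[A] B := (Algebra.TensorProduct.includeRight : B →ₐ[A] _).toRingHom
       have hφ : φ.Flat := by
         have h1 : (Algebra.TensorProduct.includeLeftRingHom : B →+* B ⊗[A] Localization.Away s).Flat :=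
           RingHom.flat_algebraMap_iff.mpr inferInstance
         have h2 := RingHom.Flat.of_bijective (f := (Algebra.TensorProduct.comm A B (Localization.Away s)).toRingHom)
           (Algebra.TensorProduct.comm A B (Localization.Away s)).bijective
         convert RingHom.Flat.comp h1 h2 using 1
         exact RingHom.ext fun b => by simp [φ]
       have hg : CAlgX.IsH1Regular (φ ∘ ls.get) := Groth.KoszulLCI.isH1Regular_map φ hφ hls
       refine isH1Regular_of_span_eq (Groth.KoszulLCI.isQuasiRegular_map _ ?_ hf) hg ?_
       · exact RingHom.flat_algebraMap_iff.mpr inferInstance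
       · rw [Set.range_comp, Set.range_comp φ, ← Ideal.map_span, ← Ideal.map_span, hspan, range_get, ← hJ,
           Ideal.map_map, Ideal.map_map]
         congr 1
         exact RingHom.ext fun a => by
           simp only [φ, RingHom.comp_apply, AlgHom.toRingHom_eq_coe, RingHom.coe_coe, AlgHom.commutes,
             IsScalarTower.algebraMap_apply A (Localization.Away s) (Localization.Away s ⊗[A] B)])

theorem h1_quotient_of_map {π : A →+* B} (hπ : Function.Surjective π)
    {f g : List A} (hker : RingHom.ker π = Ideal.ofList f) (hg : RegImm.Kind.Seq .h1 B (g.map π)) :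
    CAlgX.IsH1Regular (fun j => Ideal.Quotient.mk (Ideal.span (Set.range f.get)) (g.get j)) := by
  let e : B ≃+* A ⧸ Ideal.span (Set.range f.get) :=
    (RingHom.quotientKerEquivOfSurjective hπ).symm.trans (Ideal.quotEquivOfEq (hker.trans (range_get f).symm))
  have he : ∀ a, e (π a) = Ideal.Quotient.mk _ a := fun a => by
    have : (RingHom.quotientKerEquivOfSurjective hπ).symm (π a) = Ideal.Quotient.mk (RingHom.ker π) a := by
      rw [RingEquiv.symm_apply_eq]; rfl
    simp [e, this]
  have hg' : CAlgX.IsH1Regular (π ∘ g.get) := by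
    have := Groth.KoszulLCI.cast_transfer (fun c h => CAlgX.IsH1Regular (c := c) h)
      (List.length_map π (as := g)).symm (g.map π).get hg
    convert this using 1
    funext i
    simp
  convert Groth.KoszulLCI.isH1Regular_map e.toRingHom (RingHom.Flat.of_bijective (f := e.toRingHom) e.bijective) hg' using 1
  funext j
  exact (he _).symm

theorem get_append_eq (f g : List A) :
    (f ++ g).get = fun i => Fin.append f.get g.get (i.cast List.length_append) := by
  funext i
  by_cases h : (i : ℕ) < f.length
  · rw [show i.cast List.length_append = Fin.castAdd g.length (⟨i, h⟩ : Fin f.length) from Fin.ext rfl, Fin.append_left]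
    simp [List.getElem_append_left h]
  · have hi : (i : ℕ) - f.length < g.length := by have := i.2; simp only [List.length_append] at this; omega
    rw [show i.cast List.length_append = Fin.natAdd f.length (⟨i - f.length, hi⟩ : Fin g.length) from
      Fin.ext (by simp only [Fin.val_cast, Fin.val_natAdd]; omega), Fin.append_right]
    simp [List.getElem_append_right (Nat.not_lt.1 h)]

theorem seq_h1_append {π : A →+* B} (hπ : Function.Surjective π) {f g : List A}
    (hf : RegImm.Kind.Seq .h1 A f) (hker : RingHom.ker π = Ideal.ofList f)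
    (hg : RegImm.Kind.Seq .h1 B (g.map π)) : RegImm.Kind.Seq .h1 A (f ++ g) := by
  show CAlgX.IsH1Regular (f ++ g).get
  rw [get_append_eq]
  exact Groth.KoszulLCI.cast_transfer (fun c h => CAlgX.IsH1Regular (c := c) h) List.length_append _
    (Groth.Agent.S2105.result f.get g.get hf (h1_quotient_of_map hπ hker hg))

theorem seq_quasi_append {π : A →+* B} (hπ : Function.Surjective π) {f g : List A}
    (hf : RegImm.Kind.Seq .quasi A f) (hker : RingHom.ker π = Ideal.ofList f)
    (hg : RegImm.Kind.Seq .h1 B (g.map π)) : RegImm.Kind.Seq .quasi A (f ++ g) := by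
  show CAlgX.IsQuasiRegular (f ++ g).get
  rw [get_append_eq]
  exact Groth.KoszulLCI.cast_transfer (fun c h => CAlgX.IsQuasiRegular (c := c) h) List.length_append _
    (Groth.Agent.S2104.result f.get g.get hf (h1_quotient_of_map hπ hker hg))

end Groth.RegKinds
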