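import Groth.Agent.AlgSpCartier.RegKinds
import Mathlib.RingTheory.RingHom.Flat
import Mathlib.AlgebraicGeometry.Morphisms.Flat

/-! Descent of sequences of the kinds Koszul, `H₁`, quasi given locally upstairs. -/

set_option autoImplicit false
universe u

open TensorProduct

namespace Groth.RegKinds

variable {A B : Type u} [CommRing A] [CommRing B]

/-- Triviality of relations is detected after localizing away from a prime. -/
theorem exists_pow_smul_mem_relTriv {R R' : Type u} [CommRing R] [CommRing R'] [Algebra R R'] (t : R)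
    [IsLocalization.Away t R'] {c : ℕ} (f : Fin c → R) (hf : CAlgX.IsH1Regular (algebraMap R R' ∘ f))
    {a : Fin c → R} (ha : ∑ i, a i * f i = 0) : ∃ n : ℕ, t ^ n • a ∈ relTriv f := by
  have h := hf (algebraMap R R' ∘ a) (by simp [← map_mul, ← map_sum, ha])
  have key : ∀ w ∈ relTriv (algebraMap R R' ∘ f), ∃ (n : ℕ) (v : Fin c → R), v ∈ relTriv f ∧
      algebraMap R R' (t ^ n) • w = algebraMap R R' ∘ v := by
    intro w hw
    induction hw using Submodule.span_induction with
    | mem w hw =>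
      obtain ⟨i, j, rfl⟩ := hw
      refine ⟨0, Pi.single i (f j) - Pi.single j (f i), Submodule.subset_span ⟨i, j, rfl⟩, ?_⟩
      funext k
      simp [Pi.single_apply, apply_ite (algebraMap R R')]
    | zero => exact ⟨0, 0, zero_mem _, by funext k; simp⟩
    | add x y _ _ hx hy =>
      obtain ⟨n, v, hv, ex⟩ := hx
      obtain ⟨m, v', hv', ey⟩ := hy
      refine ⟨n + m, t ^ m • v + t ^ n • v', add_mem (Submodule.smul_mem _ _ hv) (Submodule.smul_mem _ _ hv'), ?_⟩
      funext k
      have e₁ := congrFun ex k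
      have e₂ := congrFun ey k
      simp only [Pi.smul_apply, smul_eq_mul, Function.comp_apply] at e₁ e₂
      simp only [Pi.smul_apply, smul_eq_mul, Function.comp_apply, Pi.add_apply, map_add, map_mul, pow_add, ← e₁, ← e₂]
      ring
    | smul r x _ hx =>
      obtain ⟨n, v, hv, ex⟩ := hx
      obtain ⟨⟨b, ⟨_, m, rfl⟩⟩, hb⟩ := IsLocalization.surj (Submonoid.powers t) r
      refine ⟨n + m, b • v, Submodule.smul_mem _ _ hv, ?_⟩
      funext k
      have e₁ := congrFun ex k
      simp only [Pi.smul_apply, smul_eq_mul, Function.comp_apply] at e₁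
      simp only [Pi.smul_apply, smul_eq_mul, Function.comp_apply, map_mul, pow_add] at hb ⊢
      rw [← hb, ← e₁]
      ring
  obtain ⟨n, v, hv, e⟩ := key _ h
  have hk : ∀ k, ∃ m : ℕ, t ^ m * (t ^ n * a k) = t ^ m * v k := fun k => by
    have e₁ := congrFun e k
    simp only [Pi.smul_apply, smul_eq_mul, Function.comp_apply, ← map_mul] at e₁
    obtain ⟨⟨_, m, rfl⟩, hm⟩ := (IsLocalization.eq_iff_exists (Submonoid.powers t) R').1 e₁
    exact ⟨m, hm⟩
  choose m hm using hk
  refine ⟨(∑ k, m k) + n, ?_⟩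
  have : t ^ ((∑ k, m k) + n) • a = t ^ (∑ k, m k) • v := by
    funext k
    obtain ⟨M, hM⟩ := Nat.exists_eq_add_of_le (Finset.single_le_sum (fun _ _ => Nat.zero_le _) (Finset.mem_univ k) : m k ≤ ∑ k, m k)
    simp only [Pi.smul_apply, smul_eq_mul, hM]
    linear_combination (t ^ M) * hm k
  rw [this]
  exact Submodule.smul_mem _ _ hv

/-- Local descent, the sequences upstairs being given locally. -/
theorem seq_descent_local (k : RegImm.Kind) (hk : k ≠ .regular) [Algebra A B] [Module.FaithfullyFlat A B] (J : Ideal A)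
    (hloc : ∀ Q : Ideal B, Q.IsPrime → J.map (algebraMap A B) ≤ Q → ∃ t ∉ Q, ∃ ls : List (Localization.Away t),
      k.Seq (Localization.Away t) ls ∧
        (J.map (algebraMap A B)).map (algebraMap B (Localization.Away t)) = Ideal.ofList ls)
    (P : Ideal A) [hP : P.IsPrime] (hJP : J ≤ P) :
    ∃ s ∉ P, ∃ rs : List (Localization.Away s), k.Seq (Localization.Away s) rs ∧
      J.map (algebraMap A (Localization.Away s)) = Ideal.ofList rs := by
  by_cases hkos : k = .koszul
  · subst hkos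
    obtain ⟨s, hs, rs, hrs, hspan⟩ := Groth.Agent.S9251.result A B J
      (fun Q hQ => hloc Q.asIdeal Q.isPrime hQ) ⟨P, hP⟩ hJP
    exact ⟨s, hs, rs, hrs, hspan⟩
  have hL : PP16.IsLocallyQuasiRegular B (J.map (algebraMap A B)) := fun Q hQ hJQ => by
    obtain ⟨t, ht, ls, hls, he⟩ := hloc Q hQ hJQ
    exact ⟨t, ht, ls.length, ls.get, Groth.KoszulLCI.seq_quasi k hls, by rw [range_get, he]⟩
  obtain ⟨s, hs, r, f, hf, hspan⟩ := Groth.PP.QR.lqr_of_faithfullyFlat J hL P hJP
  refine ⟨s, hs, List.ofFn f, ?_, by rw [← hspan, Ideal.ofList]; congr 1; ext x; simp⟩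
  cases k with
  | regular => exact absurd rfl hk
  | koszul => exact absurd rfl hkos
  | quasi =>
    show CAlgX.IsQuasiRegular (List.ofFn f).get
    rw [show (List.ofFn f).get = fun i => f (i.cast List.length_ofFn) from funext fun i => List.get_ofFn f i]
    exact Groth.KoszulLCI.cast_transfer (fun c g => CAlgX.IsQuasiRegular (c := c) g) List.length_ofFn f hf
  | h1 =>
    show CAlgX.IsH1Regular (List.ofFn f).get
    rw [show (List.ofFn f).get = fun i => f (i.cast List.length_ofFn) from funext fun i => List.get_ofFn f i]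
    refine Groth.KoszulLCI.cast_transfer (fun c g => CAlgX.IsH1Regular (c := c) g) List.length_ofFn f
      (isH1Regular_descent (B := Localization.Away s ⊗[A] B) ?_)
    let φ : B →+* Localization.Away s ⊗[A] B := (Algebra.TensorProduct.includeRight : B →ₐ[A] _).toRingHom
    have hφ : φ.Flat := by
      have h1 : (Algebra.TensorProduct.includeLeftRingHom : B →+* B ⊗[A] Localization.Away s).Flat :=
        RingHom.flat_algebraMap_iff.mpr inferInstance
      have h2 := RingHom.Flat.of_bijective (f := (Algebra.TensorProduct.comm A B (Localization.Away s)).toRingHom)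
        (Algebra.TensorProduct.comm A B (Localization.Away s)).bijective
      convert RingHom.Flat.comp h1 h2 using 1
      exact RingHom.ext fun b => by simp [φ]
    set θ := algebraMap (Localization.Away s) (Localization.Away s ⊗[A] B)
    have hθ : θ.Flat := RingHom.flat_algebraMap_iff.mpr inferInstance
    intro a ha
    refine mem_of_forall_prime _ a fun Q hQ => ?_
    by_cases hle : Ideal.span (Set.range (θ ∘ f)) ≤ Q
    · have hsp : Ideal.span (Set.range (θ ∘ f)) = (J.map (algebraMap A B)).map φ := by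
        rw [Set.range_comp, ← Ideal.map_span, hspan, Ideal.map_map, Ideal.map_map]
        congr 1
        exact RingHom.ext fun x => by
          simp only [φ, θ, RingHom.comp_apply, AlgHom.toRingHom_eq_coe, RingHom.coe_coe, AlgHom.commutes,
            IsScalarTower.algebraMap_apply A (Localization.Away s) (Localization.Away s ⊗[A] B)]
      haveI := hQ
      obtain ⟨t, ht, ls, hls, he⟩ := hloc (Q.comap φ) inferInstance (Ideal.map_le_iff_le_comap.1 (hsp ▸ hle))
      let ψ : Localization.Away t →+* Localization.Away (φ t) := Localization.awayMap φ t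
      have hψ : ψ.Flat := RingHom.Flat.propertyIsLocal.localizationAwayPreserves φ t _ _ hφ
      refine ⟨_, ?_, (exists_pow_smul_mem_relTriv (R' := Localization.Away (φ t)) (φ t) (θ ∘ f) ?_ ha).choose_spec⟩
      · exact fun hmem => ht (hQ.mem_of_pow_mem _ hmem)
      refine isH1Regular_of_span_eq
        (Groth.KoszulLCI.isQuasiRegular_map _ (RingHom.flat_algebraMap_iff.mpr inferInstance)
          (Groth.KoszulLCI.isQuasiRegular_map θ hθ hf))
        (Groth.KoszulLCI.isH1Regular_map ψ hψ (f := ls.get) hls) ?_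
      rw [Set.range_comp, ← Ideal.map_span, hsp, Set.range_comp ψ, ← Ideal.map_span, range_get, ← he,
        Ideal.map_map, Ideal.map_map, Ideal.map_map, Ideal.map_map]
      congr 2
      refine RingHom.ext fun b => ?_
      simp [ψ, Localization.awayMap, IsLocalization.Away.map, IsLocalization.map_eq]
    · obtain ⟨_, ⟨i, rfl⟩, hi⟩ : ∃ y ∈ Set.range (θ ∘ f), y ∉ Q := by
        by_contra hall
        push Not at hall
        exact hle (Ideal.span_le.2 hall)
      exact ⟨_, hi, mul_relation_mem (θ ∘ f) ha i⟩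

end Groth.RegKinds

open CategoryTheory CategoryTheory.Limits AlgebraicGeometry
open Groth.KoszulReg (surjective_app isAffineOpen_preimage isClosedImmersion_restrict)

namespace Groth.RegKinds

theorem seq_map_kind {R B : Type u} [CommRing R] [CommRing B] (k : RegImm.Kind) (hk : k ≠ .regular) (θ : R →+* B)
    (hθ : θ.Flat) {l : List R} (h : k.Seq R l) : k.Seq B (l.map θ) := by
  cases k with
  | regular => exact absurd rfl hk
  | koszul => exact Groth.KoszulReg.isKoszulRegularSeq_map θ hθ l h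
  | h1 =>
    show CAlgX.IsH1Regular (l.map θ).get
    rw [Groth.KoszulLCI.get_map]
    exact Groth.KoszulLCI.cast_transfer (fun c g => CAlgX.IsH1Regular (c := c) g) (List.length_map (as := l) θ) (θ ∘ l.get)
      (Groth.KoszulLCI.isH1Regular_map θ hθ (f := l.get) h)
  | quasi =>
    show CAlgX.IsQuasiRegular (l.map θ).get
    rw [Groth.KoszulLCI.get_map]
    exact Groth.KoszulLCI.cast_transfer (fun c g => CAlgX.IsQuasiRegular (c := c) g) (List.length_map (as := l) θ) (θ ∘ l.get)
      (Groth.KoszulLCI.isQuasiRegular_map θ hθ (f := l.get) h)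

variable {X Y : Scheme.{u}}

/-- On an affine scheme, local sequences for the ideal of a closed regular immersion. -/
theorem exists_local_seq (k : RegImm.Kind) (hk : k ≠ .regular) [IsAffine X] (i : Y ⟶ X)
    [IsClosedImmersion (i ∣_ (⊤ : X.Opens))] (h : ∀ y, RegImm.IsRegularImmersionAt k i y)
    (Q : Ideal Γ(X, ⊤)) (hQ : Q.IsPrime) (hle : RingHom.ker (i.app ⊤).hom ≤ Q) :
    ∃ t ∉ Q, ∃ ls : List (Localization.Away t), k.Seq (Localization.Away t) ls ∧
      (RingHom.ker (i.app ⊤).hom).map (algebraMap Γ(X, ⊤) (Localization.Away t)) = Ideal.ofList ls := by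
  let hT := isAffineOpen_top X
  let x := hT.fromSpec ⟨Q, hQ⟩
  have hbas : ∀ b : Γ(X, ⊤), b ∈ Q ↔ x ∉ X.basicOpen b := fun b => by
    have h1 : (⟨Q, hQ⟩ : PrimeSpectrum Γ(X, ⊤)) ∈ hT.fromSpec ⁻¹ᵁ X.basicOpen b ↔ b ∉ Q := by
      rw [hT.fromSpec_preimage_basicOpen]; rfl
    exact ⟨fun hb hx => h1.1 hx hb, fun hx => by_contra fun hb => hx (h1.2 hb)⟩
  obtain ⟨y, hy⟩ : x ∈ Set.range i := by
    by_contra hxr
    have hcl : IsClosedImmersion i :=
      (IsZariskiLocalAtTarget.iff_of_iSup_eq_top (P := @IsClosedImmersion) (fun _ : PUnit.{1} => (⊤ : X.Opens))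
        (ciSup_const)).2 fun _ => inferInstance
    obtain ⟨b, hb, hxb⟩ := hT.exists_basicOpen_le (V := ⟨(Set.range i)ᶜ, i.isClosedEmbedding.isClosed_range.isOpen_compl⟩)
      ⟨x, hxr⟩ trivial
    have hbot : Y.basicOpen ((i.app ⊤).hom b) = ⊥ := by
      rw [← Scheme.preimage_basicOpen]
      exact eq_bot_iff.2 fun y hy => hb hy ⟨y, rfl⟩
    haveI : IsAffineOpen (i ⁻¹ᵁ (⊤ : X.Opens)) := isAffineOpen_preimage i ⊤ hT
    obtain ⟨n, hn⟩ := (Scheme.isNilpotent_iff_basicOpen_eq_bot_of_isCompact this.isCompact _).2 hbot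
    rw [← map_pow] at hn
    exact (hbas b).1 (hQ.mem_of_pow_mem n (hle hn)) hxb
  obtain ⟨W, hyW, hcW, rs, hrs, hker⟩ := h y
  obtain ⟨b, hbW, hxb⟩ := hT.exists_basicOpen_le (V := W.1) ⟨x, hy ▸ hyW⟩ trivial
  haveI := hcW
  refine ⟨b, fun hb => (hbas b).1 hb hxb, ?_⟩
  have hDW : X.basicOpen ((X.presheaf.map (homOfLE le_top).op).hom b : Γ(X, W.1)) = X.basicOpen b := by
    rw [Scheme.basicOpen_res, inf_eq_right.2 hbW]
  have hyb : i y ∈ X.basicOpen ((X.presheaf.map (homOfLE le_top).op).hom b : Γ(X, W.1)) := by rw [hDW, hy]; exact hxb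
  obtain ⟨-, ts, hts, -, hkt⟩ := chart_basicOpen k i W rs hrs hker _ hyb
  obtain ⟨ts', hts', hkt'⟩ : ∃ l : List Γ(X, X.basicOpen b), k.Seq Γ(X, X.basicOpen b) l ∧
      RingHom.ker (i.app (X.basicOpen b)).hom = Ideal.ofList l := by
    rw [← hDW]; exact ⟨ts, hts, hkt⟩
  let _ := (X.presheaf.map (homOfLE (X.basicOpen_le b)).op).hom.toAlgebra
  have := hT.isLocalization_basicOpen b
  let ψ := IsLocalization.algEquiv (Submonoid.powers b) Γ(X, X.basicOpen b) (Localization.Away b)
  refine ⟨ts'.map ψ.toAlgHom.toRingHom, seq_map_kind k hk _ (RingHom.Flat.of_bijective (f := ψ.toAlgHom.toRingHom) ψ.bijective) hts', ?_⟩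
  rw [← Ideal.map_ofList, ← hkt', Groth.KoszulLCI.ker_app_basicOpen i hT b, Ideal.map_map]
  congr 1
  exact RingHom.ext fun a => (ψ.commutes a).symm

/-- One affine faithfully flat test scheme over an affine open of the target suffices. -/
theorem isRegularImmersionAt_of_affine_test {T T' : Scheme.{u}} [IsAffine T] (k : RegImm.Kind) (hk : k ≠ .regular)
    (i : Y ⟶ X) {U : X.Opens} (hU : IsAffineOpen U) [IsClosedImmersion (i ∣_ U)] (z : Y) (hzU : i z ∈ U)
    (f : T ⟶ X) [Flat f] (hle : (⊤ : T.Opens) ≤ f ⁻¹ᵁ U) (hs : (U : Set X) ⊆ f '' (⊤ : T.Opens))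
    (p : T' ⟶ Y) (j : T' ⟶ T) (sqT : IsPullback p j i f)
    (hreg : ∀ y, RegImm.IsRegularImmersionAt k j y) : RegImm.IsRegularImmersionAt k i z := by
  have hT := isAffineOpen_top T
  have hker := ker_app_baseChange i f _ _ sqT ⟨U, hU⟩ hT hle
  haveI : IsClosedImmersion (j ∣_ (⊤ : T.Opens)) := by
    have h1 := Scheme.Hom.isPullback_resLE sqT hle (le_refl (i ⁻¹ᵁ U))
      (inf_eq_right.mpr fun y hy => show i (p y) ∈ U by
        rw [← Scheme.Hom.comp_apply, sqT.w]; exact hle hy).symm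
    rw [Scheme.Hom.resLE_eq_morphismRestrict, Scheme.Hom.resLE_eq_morphismRestrict] at h1
    exact MorphismProperty.of_isPullback h1 inferInstance
  letI := (f.appLE U ⊤ hle).hom.toAlgebra
  haveI := Groth.AlgSpCartier.faithfullyFlat_appLE f hU hT hle hs
  obtain ⟨t, ht, rs, hrs, hJ⟩ := seq_descent_local k hk (A := Γ(X, U)) (B := Γ(T, ⊤))
    (RingHom.ker (i.app U).hom) (fun Q hQ hJQ => by
      obtain ⟨t, ht, ls, hls, he⟩ := exists_local_seq k hk j hreg Q hQ (hker.le.trans hJQ)
      refine ⟨t, ht, ls, hls, ?_⟩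
      rw [← he]
      exact congrArg _ hker.symm)
    (hU.primeIdealOf ⟨i z, hzU⟩).asIdeal (Groth.KoszulLCI.ker_app_le_primeIdealOf i hU z hzU)
  have hzt : i z ∈ X.basicOpen t := by
    have h3 : hU.primeIdealOf ⟨i z, hzU⟩ ∈ PrimeSpectrum.basicOpen t := ht
    rw [← hU.fromSpec_preimage_basicOpen] at h3
    have h5 : hU.fromSpec (hU.primeIdealOf ⟨i z, hzU⟩) ∈ X.basicOpen t := h3
    rwa [hU.fromSpec_primeIdealOf] at h5
  let _ := (X.presheaf.map (homOfLE (X.basicOpen_le t)).op).hom.toAlgebra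
  have := hU.isLocalization_basicOpen t
  let ψ := IsLocalization.algEquiv (Submonoid.powers t) (Localization.Away t) Γ(X, X.basicOpen t)
  refine Groth.KoszulLCI.exists_seq_of_ker k i z ⟨X.basicOpen t, hU.basicOpen t⟩ hzt
    (isClosedImmersion_restrict i (X.basicOpen_le t)) ψ.toAlgHom.toRingHom
    (RingHom.Flat.of_bijective (f := ψ.toAlgHom.toRingHom) ψ.bijective) rs hrs ?_
  rw [← Ideal.map_ofList, ← hJ, Ideal.map_map, Groth.KoszulLCI.ker_app_basicOpen i hU t]
  congr 1
  exact RingHom.ext fun a => (ψ.commutes a).symm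


/-- The kinds Koszul, `H₁` and quasi of regular immersion descend along flat quasi-compact surjections. -/
theorem isRegularImmersion_descent_fpqc {X' Y' : Scheme.{u}} (k : RegImm.Kind) (hk : k ≠ .regular) (i : Y ⟶ X) [IsImmersion i]
    (e : X' ⟶ X) [Flat e] [Surjective e] [QuasiCompact e] (i' : Y' ⟶ X') (e' : Y' ⟶ Y) (hsq : IsPullback e' i' i e)
    (h : RegImm.IsRegularImmersion k i') : RegImm.IsRegularImmersion k i := by
  refine ⟨inferInstance, fun z => ?_⟩
  have := Groth.KoszulLCI.isClosedImmersion_restrict_coborder i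
  obtain ⟨U, hU, hzU, hUle⟩ := exists_isAffineOpen_mem_and_subset
    (show i z ∈ i.coborderRange from subset_coborder ⟨_, rfl⟩)
  haveI : IsClosedImmersion (i ∣_ U) := isClosedImmersion_restrict i hUle
  haveI : CompactSpace (e ⁻¹ᵁ U).toScheme :=
    isCompact_iff_compactSpace.1 (e.isCompact_preimage hU.isCompact)
  let 𝒰 := (e ⁻¹ᵁ U).toScheme.affineCover.finiteSubcover
  haveI : ∀ j, IsAffine (𝒰.X j) := fun j => inferInstanceAs (IsAffine ((e ⁻¹ᵁ U).toScheme.affineCover.X _))
  let σ : (∐ fun j : 𝒰.I₀ => 𝒰.X j) ⟶ X' := Sigma.desc fun j => 𝒰.f j ≫ (e ⁻¹ᵁ U).ι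
  haveI : Flat σ := IsZariskiLocalAtSource.sigmaDesc fun j => (inferInstance : Flat (𝒰.f j ≫ (e ⁻¹ᵁ U).ι))
  have hle : (⊤ : (∐ fun j : 𝒰.I₀ => 𝒰.X j).Opens) ≤ (σ ≫ e) ⁻¹ᵁ U := by
    intro w _
    obtain ⟨⟨j, w⟩, rfl⟩ := (sigmaMk (fun j : 𝒰.I₀ => 𝒰.X j)).surjective w
    show (σ ≫ e) _ ∈ U
    rw [sigmaMk_mk, ← Scheme.Hom.comp_apply, Sigma.ι_desc_assoc]
    exact ((𝒰.f j) w).2
  have hs : (U : Set X) ⊆ (σ ≫ e) '' (⊤ : (∐ fun j : 𝒰.I₀ => 𝒰.X j).Opens) := by
    intro x hx
    obtain ⟨x', rfl⟩ := e.surjective x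
    obtain ⟨j, w, hw⟩ := 𝒰.exists_eq ⟨x', hx⟩
    refine ⟨Sigma.ι (fun j : 𝒰.I₀ => 𝒰.X j) j w, trivial, ?_⟩
    rw [← Scheme.Hom.comp_apply, Sigma.ι_desc_assoc]
    show e ((e ⁻¹ᵁ U).ι (𝒰.f j w)) = e x'
    rw [hw]
    rfl
  exact isRegularImmersionAt_of_affine_test k hk i hU z hzU (σ ≫ e) hle hs _ _
    ((IsPullback.of_hasPullback i' σ).paste_horiz hsq) fun y =>
      Groth.KoszulLCI.isRegularImmersionAt_baseChange_kind k i' σ _ _ (IsPullback.of_hasPullback i' σ) y (h.2 _)

end Groth.RegKinds
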