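import Groth.Agent.AlgSpCartier.WeakAss
import Groth.Agent.AlgSp3.ImmersionImage
import Mathlib.Algebra.Category.ModuleCat.Sheaf.Limits
import Mathlib.RingTheory.Ideal.MinimalPrime.Localization
import Mathlib.RingTheory.Ideal.Height
import Mathlib.CategoryTheory.Preadditive.LeftExact

/-! Weakly associated points: short exact sequences, vanishing, reduced spaces. -/

set_option autoImplicit false
set_option backward.isDefEq.respectTransparency.types false
universe u

open CategoryTheory CategoryTheory.Limits AlgebraicGeometry Opposite AlgSp Groth.AlgSpBasic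

namespace Groth.AlgSpCartier

noncomputable section

variable {S : Scheme.{u}} {X : Sp S}

/-- Evaluation of modules at an object of the small etale site. -/
abbrev sectFunctor (E : EtOver X) : ModEt X ⥤ ModuleCat.{u + 1} ((OEtRing X).obj.obj (op E)) :=
  SheafOfModules.evaluation (OEtRing X) (op E)

instance (E : EtOver X) : (sectFunctor E).Additive where map_add := rfl

theorem sect_injective_and_exact (C : ShortComplex (ModEt X)) (hC : C.ShortExact) (E : EtOver X) :
    Function.Injective ((sectFunctor E).map C.f).hom ∧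
      ∀ s, ((sectFunctor E).map C.g).hom s = 0 → ∃ t, ((sectFunctor E).map C.f).hom t = s := by
  have := hC.mono_f
  have h1 : Mono ((sectFunctor E).map C.f) := (sectFunctor E).map_mono C.f
  have h2 : (C.map (sectFunctor E)).Exact :=
    ShortComplex.exact_of_f_is_kernel _ (KernelFork.mapIsLimit _ hC.fIsKernel (sectFunctor E))
  exact ⟨(ModuleCat.mono_iff_injective _).1 h1, fun s hs =>
    ((ShortComplex.moduleCat_exact_iff _).1 h2) s hs⟩

theorem mem_annSect_map_of_mem {M N : ModEt X} (φ : M ⟶ N) {E : EtOver X} {s : sectModEt M E}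
    {a : Γ(E.obj.left.left, ⊤)} (h : a ∈ annSect s) :
    a ∈ annSect (((sectFunctor E).map φ).hom s : sectModEt N E) := by
  rw [mem_annSect_iff] at h ⊢
  have h2 := ((sectFunctor E).map φ).hom.map_smul (upΓ E a) s
  exact (h2.symm.trans (congrArg _ h)).trans (map_zero _)

theorem annSect_map_of_injective {M N : ModEt X} (φ : M ⟶ N) {E : EtOver X} (s : sectModEt M E)
    (h : Function.Injective ((sectFunctor E).map φ).hom) :
    annSect (((sectFunctor E).map φ).hom s : sectModEt N E) = annSect s := by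
  refine le_antisymm (fun a ha => ?_) fun a ha => mem_annSect_map_of_mem φ ha
  rw [mem_annSect_iff] at ha ⊢
  refine h ?_
  have h2 := ((sectFunctor E).map φ).hom.map_smul (upΓ E a) s
  exact (h2.trans ha).trans (map_zero _).symm

theorem weakAssEt_shortExact (C : ShortComplex (ModEt X)) (hC : C.ShortExact) :
    WeakAssEt C.X₂ ⊆ WeakAssEt C.X₁ ∪ WeakAssEt C.X₃ ∧ WeakAssEt C.X₁ ⊆ WeakAssEt C.X₂ := by
  constructor
  · rintro x ⟨E, hE, u, hu, s, hs⟩
    obtain ⟨hinj, hex⟩ := sect_injective_and_exact C hC E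
    set P := primeAtPt E.obj.left.left u
    set t : sectModEt C.X₃ E := ((sectFunctor E).map C.g).hom s with ht
    by_cases htP : annSect t ≤ P
    · exact Or.inr ⟨E, hE, u, hu, t, ⟨⟨inferInstance, htP⟩, fun Q hQ hQP =>
        hs.2 ⟨hQ.1, fun a ha => hQ.2 (mem_annSect_map_of_mem C.g ha)⟩ hQP⟩⟩
    · obtain ⟨c, hct, hcP⟩ := Set.not_subset.1 htP
      obtain ⟨s₁, hs₁⟩ := hex (upΓ E c • s : sectModEt C.X₂ E) (by
        exact (((sectFunctor E).map C.g).hom.map_smul (upΓ E c) s).trans ((mem_annSect_iff _ _).1 hct))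
      refine Or.inl ⟨E, hE, u, hu, s₁, ?_⟩
      have hann : annSect (upΓ E c • s : sectModEt C.X₂ E) = annSect s₁ := by
        rw [← hs₁]; exact annSect_map_of_injective C.f s₁ hinj
      rw [← hann]
      refine ⟨⟨inferInstance, fun a ha => ?_⟩, fun Q hQ hQP => hs.2 ⟨hQ.1, fun a ha => hQ.2 ?_⟩ hQP⟩
      · have h1 : a * c ∈ annSect s := by
          rw [mem_annSect_iff] at ha ⊢
          rw [map_mul, mul_smul]; exact ha
        exact (((inferInstance : P.IsPrime).mem_or_mem (hs.1.2 h1))).resolve_right hcP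
      · rw [SetLike.mem_coe, mem_annSect_iff] at *
        exact (smul_smul _ _ _).trans ((congrArg (· • _) ((map_mul _ _ _).symm.trans
          ((congrArg (upΓ E) (mul_comm a c)).trans (map_mul _ _ _)))).trans
          ((smul_smul _ _ _).symm.trans ((congrArg (upΓ E c • ·) ha).trans (smul_zero _))))
  · rintro x ⟨E, hE, u, hu, s, hs⟩
    refine ⟨E, hE, u, hu, (((sectFunctor E).map C.f).hom s : sectModEt C.X₂ E), ?_⟩
    rw [annSect_map_of_injective C.f s (sect_injective_and_exact C hC E).1]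
    exact hs

theorem exists_weakAssOn_of_ne_zero {M : ModEt X} (E : EtOver X) [IsAffine E.obj.left.left]
    {s : sectModEt M E} (hs : s ≠ 0) : ∃ u, IsWeakAssOn M E u := by
  have hne : annSect s ≠ ⊤ := fun h => hs (by
    simpa using (mem_annSect_iff s 1).1 (h ▸ Submodule.mem_top))
  obtain ⟨⟨P, hP⟩⟩ := Ideal.nonempty_minimalPrimes hne
  exact ⟨(isAffineOpen_top _).fromSpec ⟨P, hP.1.1⟩, s, by rwa [primeAtPt_fromSpec]⟩

theorem affine_sections_eq_zero {M : ModEt X} (h : WeakAssEt M = ∅) (E : EtOver X)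
    [IsAffine E.obj.left.left] (s : sectModEt M E) : s = 0 := by
  by_contra hne
  obtain ⟨u, hu⟩ := exists_weakAssOn_of_ne_zero E hne
  exact Set.notMem_empty _ (h.le ⟨E, inferInstance, u, rfl, hu⟩)

theorem sections_eq_zero {M : ModEt X} (h : WeakAssEt M = ∅) (E : EtOver X) (s : sectModEt M E) :
    s = 0 := by
  let 𝒰 := E.obj.left.left.affineCover
  let Y (i : 𝒰.I₀) : EtOver X :=
    EtOver.mk ((yon S).map (Over.homMk (𝒰.f i) : Over.mk (𝒰.f i ≫ E.obj.left.hom) ⟶ E.obj.left) ≫ E.obj.hom)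
      (repWith_comp ((repWith_yon_map_iff _ _).2 (inferInstance : Etale (𝒰.f i))) E.property)
  let g (i : 𝒰.I₀) : Y i ⟶ E := EtOver.homMk (Over.homMk (𝒰.f i)) rfl
  have hcov : Sieve.ofArrows Y g ∈ etTop X E := ofArrows_mem_etTop Y g fun x => by
    obtain ⟨i, y, hy⟩ := 𝒰.exists_eq x
    exact ⟨i, y, hy⟩
  have hM : Presieve.IsSheaf (etTop X) (M.val.presheaf ⋙ forget AddCommGrpCat) :=
    (isSheaf_iff_isSheaf_of_type _ _).1 (Presheaf.isSheaf_comp_of_isSheaf _ _ _ M.isSheaf)
  refine (hM _ hcov).isSeparatedFor.ext fun Z f hf => ?_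
  obtain ⟨Z', a, b, hb, rfl⟩ := hf
  cases hb with | mk i => ?_
  have : IsAffine (Y i).obj.left.left := inferInstanceAs (IsAffine (𝒰.X i))
  have h1 : M.val.presheaf.map (g i).op s = (0 : sectModEt M (Y i)) :=
    affine_sections_eq_zero h (Y i) _
  show M.val.presheaf.map (a ≫ g i).op s = M.val.presheaf.map (a ≫ g i).op (0 : sectModEt M E)
  rw [op_comp, Functor.map_comp]
  erw [ConcreteCategory.comp_apply, ConcreteCategory.comp_apply, h1, map_zero, map_zero, map_zero]

theorem isZero_iff_weakAssEt_eq_empty (M : ModEt X) : IsZero M ↔ WeakAssEt M = ∅ := by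
  constructor
  · intro h
    refine Set.eq_empty_of_forall_notMem ?_
    rintro x ⟨E, hE, u, hu, s, hs⟩
    have h0 : s = 0 := by
      have hz : IsZero ((sectFunctor E).obj M) := Functor.map_isZero _ h
      have := ModuleCat.subsingleton_of_isZero hz
      exact Subsingleton.elim (α := (sectFunctor E).obj M) s 0
    exact hs.1.1.ne_top (eq_top_iff.2 fun a _ => hs.1.2 (by rw [mem_annSect_iff, h0, smul_zero]))
  · intro h
    rw [IsZero.iff_id_eq_zero]
    refine SheafOfModules.Hom.ext (PresheafOfModules.hom_ext fun E => ?_)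
    refine ModuleCat.hom_ext (LinearMap.ext fun s => ?_)
    exact (sections_eq_zero h E.unop s).trans (sections_eq_zero h E.unop _).symm

theorem primeAtPt_eq_primeIdealOf (U : Scheme.{u}) [IsAffine U] (u : U) :
    primeAtPt U u = ((isAffineOpen_top U).primeIdealOf ⟨u, trivial⟩).asIdeal := by
  have h := primeAtPt_fromSpec U ((isAffineOpen_top U).primeIdealOf ⟨u, trivial⟩)
  rw [(isAffineOpen_top U).fromSpec_primeIdealOf] at h
  exact h

theorem ringKrullDim_stalk_eq_zero_iff (U : Scheme.{u}) [IsAffine U] (u : U) :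
    ringKrullDim ↥(U.presheaf.stalk u) = 0 ↔ primeAtPt U u ∈ minimalPrimes Γ(U, ⊤) := by
  let := TopCat.Presheaf.algebra_section_stalk U.presheaf (⟨u, trivial⟩ : (⊤ : U.Opens))
  have := (isAffineOpen_top U).isLocalization_stalk ⟨u, trivial⟩
  show ringKrullDim ↥(U.presheaf.stalk ((⟨u, trivial⟩ : (⊤ : U.Opens)) : U)) = 0 ↔ _
  rw [primeAtPt_eq_primeIdealOf,
    IsLocalization.AtPrime.ringKrullDim_eq_height ((isAffineOpen_top U).primeIdealOf ⟨u, trivial⟩).asIdeal
      (U.presheaf.stalk ((⟨u, trivial⟩ : (⊤ : U.Opens)) : U)), ← Ideal.height_eq_zero_iff]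
  exact WithBot.coe_eq_zero

theorem mem_minimalPrimes_of_mem_minimalPrimes_ann {A : Type u} [CommRing A] [_root_.IsReduced A]
    {b : A} {J P : Ideal A} (hJ : ∀ c, c ∈ J ↔ c * b = 0) (hP : P ∈ J.minimalPrimes) :
    P ∈ minimalPrimes A := by
  have hPp := hP.1.1
  have hb : b ∉ P := fun hb => by
    obtain ⟨y, hy, hby⟩ := Ideal.exists_mul_mem_of_mem_minimalPrimes hP hb
    refine hy ((hJ y).2 ?_)
    have h2 := (hJ _).1 hby
    refine IsReduced.eq_zero _ ⟨2, ?_⟩
    rw [pow_two]
    calc y * b * (y * b) = y * (b * y * b) := by ring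
      _ = 0 := by rw [h2, mul_zero]
  refine ⟨⟨hPp, bot_le⟩, fun Q hQ hQP => hP.2 ⟨hQ.1, fun c hc => ?_⟩ hQP⟩
  refine (hQ.1.mem_or_mem ?_).resolve_right fun h => hb (hQP h)
  rw [(hJ c).1 hc]; exact Q.zero_mem

theorem mem_annSect_unit_iff {E : EtOver X} (b a : Γ(E.obj.left.left, ⊤)) :
    a ∈ annSect (show sectModEt (unitModEt X) E from upΓ E b) ↔ a * b = 0 := by
  rw [mem_annSect_iff]
  show upΓ E a * upΓ E b = 0 ↔ _
  rw [← map_mul]
  exact ⟨fun h => congrArg ULift.down h, fun h => by rw [h, map_zero]⟩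

/-- The weakly associated points of a reduced space are its points of codimension zero. -/
theorem mem_weakAssEt_unit_iff_of_isReduced (hX : IsAlgSpace X) (hr : IsReducedSp X) (x : Points X) :
    x ∈ WeakAssEt (unitModEt X) ↔
      HasAt (fun U u => ringKrullDim ↥(U.presheaf.stalk u) = 0) X x := by
  constructor
  · rintro ⟨E, hE, u, hu, s, hs⟩
    refine ⟨E.obj.left, E.obj.hom, u, E.property, hu, ?_⟩
    show ringKrullDim ↥(E.obj.left.left.presheaf.stalk u) = 0
    rw [ringKrullDim_stalk_eq_zero_iff]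
    have : IsReduced E.obj.left.left := Groth.AlgSp3.isReduced_etale_chart hX hr E.property
    have : _root_.IsReduced Γ(E.obj.left.left, ⊤) := inferInstance
    exact mem_minimalPrimes_of_mem_minimalPrimes_ann (A := Γ(E.obj.left.left, ⊤)) (b := s.down)
      (fun c => mem_annSect_unit_iff s.down c) hs
  · rintro ⟨U, a, v, ha, hv, h0⟩
    obtain ⟨W, hW, hvW, -⟩ := exists_isAffineOpen_mem_and_subset (X := U.left) (x := v) (U := ⊤) trivial
    let T : Over S := Over.mk (W.ι ≫ U.hom)
    let k : T ⟶ U := Over.homMk W.ι rfl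
    have hk : RepWith @Etale ((yon S).map k) := (repWith_yon_map_iff _ k).2 (inferInstance : Etale W.ι)
    let E : EtOver X := EtOver.mk ((yon S).map k ≫ a) (repWith_comp hk ha)
    have : IsAffine E.obj.left.left := hW
    have : IsAffine W.toScheme := hW
    refine ⟨E, hW, ⟨v, hvW⟩, (ofPt_comp_yon k a ⟨v, hvW⟩).trans hv, upΓ E 1, ?_⟩
    have hann : annSect (show sectModEt (unitModEt X) E from upΓ E 1) = ⊥ := by
      ext c
      rw [mem_annSect_unit_iff, mul_one, Ideal.mem_bot]
    rw [hann]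
    refine (ringKrullDim_stalk_eq_zero_iff W.toScheme ⟨v, hvW⟩).1 ?_
    rw [← ringKrullDim_eq_of_ringEquiv (asIso (W.ι.stalkMap ⟨v, hvW⟩)).commRingCatIsoToRingEquiv]
    exact h0

end

end Groth.AlgSpCartier
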